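import Mathlib

/-!
# Binary linear groups: elementary consequences

A group `K` of automorphisms of an abelian group `V` is *binary* when a tuple of vectors is carried to
another one as soon as this holds for the entries and for the differences of two entries.
-/

set_option autoImplicit false

namespace CfsgLib.KnownA.BinaryAffine

/-- `K` is binary on `V`: the affine group `V ⋊ K` is binary, stated at the stabiliser of zero. -/
def BinL (K V : Type*) [Group K] [AddCommGroup V] [DistribMulAction K V] : Prop :=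
  ∀ (n : ℕ) (v w : Fin n → V), (∀ i, ∃ k : K, k • v i = w i) →
    (∀ i j, ∃ k : K, k • (v i - v j) = w i - w j) → ∃ k : K, ∀ i, k • v i = w i

variable {K V : Type*} [Group K] [AddCommGroup V] [DistribMulAction K V]

theorem BinL.pair (hb : BinL K V) {a b a' b' : V} (ha : ∃ k : K, k • a = a')
    (hb' : ∃ k : K, k • b = b') (hab : ∃ k : K, k • (a - b) = a' - b') :
    ∃ k : K, k • a = a' ∧ k • b = b' := by
  have hba : ∃ k : K, k • (b - a) = b' - a' := by
    obtain ⟨k, hk⟩ := hab
    exact ⟨k, by rw [← neg_sub a b, smul_neg, hk, neg_sub]⟩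
  obtain ⟨k, hk⟩ := hb 2 ![a, b] ![a', b']
    (fun i => by fin_cases i <;> assumption)
    (fun i j => by
      fin_cases i <;> fin_cases j <;>
        first | assumption | exact ⟨1, by simp⟩)
  exact ⟨k, hk 0, hk 1⟩

theorem BinL.three (hb : BinL K V) {a b c a' b' c' : V} (ha : ∃ k : K, k • a = a')
    (hb' : ∃ k : K, k • b = b') (hc : ∃ k : K, k • c = c') (hab : ∃ k : K, k • (a - b) = a' - b')
    (hac : ∃ k : K, k • (a - c) = a' - c') (hbc : ∃ k : K, k • (b - c) = b' - c') :
    ∃ k : K, k • a = a' ∧ k • b = b' ∧ k • c = c' := by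
  have neg : ∀ {x y x' y' : V}, (∃ k : K, k • (x - y) = x' - y') →
      ∃ k : K, k • (y - x) = y' - x' := by
    rintro x y x' y' ⟨k, hk⟩
    exact ⟨k, by rw [← neg_sub x y, smul_neg, hk, neg_sub]⟩
  have hba := neg hab
  have hca := neg hac
  have hcb := neg hbc
  obtain ⟨k, hk⟩ := hb 3 ![a, b, c] ![a', b', c']
    (fun i => by fin_cases i <;> assumption)
    (fun i j => by
      fin_cases i <;> fin_cases j <;>
        first | assumption | exact ⟨1, by simp⟩)
  exact ⟨k, hk 0, hk 1, hk 2⟩

/-- Every vector can be exchanged with any of its images. -/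
theorem BinL.swap (hb : BinL K V) (g : K) (v : V) :
    ∃ s : K, s • v = g • v ∧ s • (g • v) = v := by
  have h : ∃ k : K, k • (v + g • v - v) = v + g • v - g • v :=
    ⟨g⁻¹, by rw [add_sub_cancel_left, inv_smul_smul, add_sub_cancel_right]⟩
  obtain ⟨k, h1, h2⟩ := hb.pair (a := v + g • v) (b := v) (a' := v + g • v) (b' := g • v)
    ⟨1, one_smul K _⟩ ⟨g, rfl⟩ h
  refine ⟨k, h2, ?_⟩
  rw [smul_add, h2] at h1
  exact add_left_cancel (h1.trans (add_comm _ _))

/-- If `g` fixes `u`, then `u + (g • v - v)` is not an image of `u`, unless `g` fixes `v`. -/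
theorem BinL.translate (hb : BinL K V) {g k : K} {u v : V} (hg : g • u = u)
    (hk : k • u = u + (g • v - v)) : g • v = v := by
  obtain ⟨s, hu, hv, hs⟩ := hb.three (a := u) (b := v) (c := u + v) (a' := u) (b' := v)
    (c' := u + g • v) ⟨1, one_smul K _⟩ ⟨1, one_smul K _⟩ ⟨g, by rw [smul_add, hg]⟩
    ⟨1, one_smul K _⟩
    ⟨g, by simp [sub_add_cancel_left, smul_neg]⟩
    ⟨k, by
      rw [show v - (u + v) = -u by abel, smul_neg, hk]
      abel⟩
  rw [smul_add, hu, hv] at hs
  exact (add_left_cancel hs).symm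

/-- No nonzero vector `δ` is the difference of `v`, of `w` and of `v + w` with some images. -/
theorem BinL.triple (hb : BinL K V) {g h k : K} {v w δ : V} (hg : g • v = v + δ)
    (hh : h • w = w + δ) (hk : k • (v + w) = v + w + δ) : δ = 0 := by
  obtain ⟨s, h1, h2, h3⟩ := hb.three (a := v) (b := w) (c := v + w) (a' := v + δ) (b' := w + δ)
    (c' := v + w + δ) ⟨g, hg⟩ ⟨h, hh⟩ ⟨k, hk⟩ ⟨1, by rw [one_smul]; abel⟩
    ⟨1, by rw [one_smul]; abel⟩ ⟨1, by rw [one_smul]; abel⟩
  rw [smul_add, h1, h2] at h3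
  have : v + δ + (w + δ) = v + w + δ + δ := by abel
  rw [this] at h3
  exact add_left_cancel (h3.trans (add_zero _).symm)

/-- Irreducibility: only the two trivial additive subgroups are invariant. -/
def IrrL (K V : Type*) [Group K] [AddCommGroup V] [DistribMulAction K V] : Prop :=
  ∀ W : AddSubgroup V, (∀ g : K, ∀ w ∈ W, g • w ∈ W) → W = ⊥ ∨ W = ⊤

/-- The vectors fixed by an element. -/
def fixAdd (g : K) : AddSubgroup V where
  carrier := {v | g • v = v}
  zero_mem' := smul_zero g
  add_mem' {a b} ha hb := by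
    simp only [Set.mem_ofPred_eq] at ha hb ⊢
    rw [smul_add, ha, hb]
  neg_mem' {a} ha := by
    simp only [Set.mem_ofPred_eq] at ha ⊢
    rw [smul_neg, ha]

theorem mem_fixAdd {g : K} {v : V} : v ∈ fixAdd g ↔ g • v = v := Iff.rfl

/-- A central element fixing a nonzero vector is trivial. -/
theorem IrrL.eq_one_of_central [FaithfulSMul K V] (hirr : IrrL K V) {g : K}
    (hg : ∀ k : K, g * k = k * g) {x : V} (hx : x ≠ 0) (hgx : g • x = x) : g = 1 := by
  rcases hirr (fixAdd g) fun k w hw => by
    simp only [mem_fixAdd] at hw ⊢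
    rw [← mul_smul, hg, mul_smul, hw] with h | h
  · exact absurd ((AddSubgroup.eq_bot_iff_forall _).1 h x hgx) hx
  · refine eq_of_smul_eq_smul (α := V) fun v => ?_
    rw [one_smul]
    exact mem_fixAdd.1 (h ▸ AddSubgroup.mem_top v)

/-- A binary irreducible semiregular group has at most two elements, and the degree is prime. -/
theorem semiregular_small [Finite V] [Nontrivial V] [FaithfulSMul K V] (hb : BinL K V)
    (hirr : IrrL K V) (p : ℕ) [Fact p.Prime] (hp : ∀ v : V, p • v = 0)
    (hsr : ∀ g : K, ∀ x : V, x ≠ 0 → g • x = x → g = 1) :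
    Nat.card V = p ∧ ∀ g : K, g = 1 ∨ ∀ v : V, g • v = -v := by
  have hneg : ∀ g : K, g = 1 ∨ ∀ v : V, g • v = -v := by
    intro g
    by_cases h1 : g = 1
    · exact Or.inl h1
    refine Or.inr fun v => ?_
    by_cases hv : v = 0
    · simp [hv]
    obtain ⟨s, hs1, hs2⟩ := hb.swap g v
    have hsg : g⁻¹ * s = 1 := hsr _ v hv (by rw [mul_smul, hs1, inv_smul_smul])
    rw [inv_mul_eq_one] at hsg
    subst hsg
    by_contra hne
    refine h1 (hsr g (g • v + v) (fun h => hne (eq_neg_of_add_eq_zero_left h)) ?_)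
    rw [smul_add, hs2, add_comm]
  refine ⟨?_, hneg⟩
  obtain ⟨x, hx⟩ := exists_ne (0 : V)
  rcases hirr (AddSubgroup.zmultiples x) fun g w hw => by
    rcases hneg g with rfl | h
    · rwa [one_smul]
    · rw [h w]; exact neg_mem hw with h | h
  · exact absurd ((AddSubgroup.eq_bot_iff_forall _).1 h x (AddSubgroup.mem_zmultiples x)) hx
  · rw [← Nat.card_congr (AddSubgroup.topEquiv (G := V)).toEquiv, ← h, Nat.card_zmultiples]
    exact addOrderOf_eq_prime (hp x) hx

/-- A regular orbit forces the group to be commutative. -/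
theorem comm_of_regular (hb : BinL K V) {x : V} (hx : ∀ g : K, g • x = x → g = 1) (g h : K) :
    g * h = h * g := by
  have hsq : ∀ a : K, a * a = 1 := by
    intro a
    obtain ⟨s, hs1, hs2⟩ := hb.swap a x
    have hsa : a⁻¹ * s = 1 := hx _ (by rw [mul_smul, hs1, inv_smul_smul])
    rw [inv_mul_eq_one] at hsa
    subst hsa
    exact hx _ (by rw [mul_smul, hs2])
  have hinv : ∀ a : K, a⁻¹ = a := fun a => inv_eq_iff_mul_eq_one.2 (hsq a)
  rw [← hinv (g * h), mul_inv_rev, hinv, hinv]

/-- The data left for the final step: a commutative subgroup of index two inverted by `r`, acting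
without fixed points, while every vector is fixed by something outside. -/
structure DihData (K V : Type*) [Group K] [AddCommGroup V] [DistribMulAction K V] where
  A : Subgroup K
  r : K
  x₀ : V
  comm : ∀ a ∈ A, ∀ b ∈ A, a * b = b * a
  fpf : ∀ a ∈ A, ∀ v : V, v ≠ 0 → a • v = v → a = 1
  r_sq : r * r = 1
  r_ne : r ≠ 1
  r_fix : r • x₀ = x₀
  x₀_ne : x₀ ≠ 0
  inv : ∀ a ∈ A, r * a * r = a⁻¹
  cover : ∀ k : K, k ∈ A ∨ k * r ∈ A
  stab : ∀ v : V, v ≠ 0 → ∃ k : K, k ∉ A ∧ k • v = v

end CfsgLib.KnownA.BinaryAffine
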