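import Cfsg.Agent.Lib.KnownA.BinaryAffine.Basic

/-!
# Reconstruction of the field of order `q²`
-/

set_option autoImplicit false
set_option linter.unusedSectionVars false

namespace CfsgLib.KnownA.BinaryAffine

variable {K V : Type*} [Group K] [Finite K] [AddCommGroup V] [Finite V] [DistribMulAction K V]
  [FaithfulSMul K V]

/-- The additive endomorphism given by a group element. -/
def toEnd (K V : Type*) [Group K] [AddCommGroup V] [DistribMulAction K V] :
    K →* AddMonoid.End V :=
  DistribMulAction.toAddMonoidEnd K V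

theorem toEnd_apply (k : K) (v : V) : toEnd K V k v = k • v := rfl

theorem DihData.mul_r_r (D : DihData K V) (k : K) : k * D.r * D.r = k := by
  rw [mul_assoc, D.r_sq, mul_one]

theorem DihData.r_conj (D : DihData K V) {a : K} (ha : a ∈ D.A) : a * D.r = D.r * a⁻¹ := by
  rw [← D.inv a ha, ← mul_assoc, ← mul_assoc, D.r_sq, one_mul]

theorem DihData.exists_sq_ne_one (hirr : IrrL K V) (D : DihData K V) :
    ∃ a ∈ D.A, a * a ≠ 1 := by
  by_contra! h
  refine D.r_ne (hirr.eq_one_of_central (fun k => ?_) D.x₀_ne D.r_fix)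
  have hc : ∀ a ∈ D.A, a * D.r = D.r * a := fun a ha => by
    rw [D.r_conj ha, inv_eq_iff_mul_eq_one.2 (h a ha)]
  rcases D.cover k with hk | hk
  · exact (hc k hk).symm
  · have h1 := hc _ hk
    calc D.r * k = D.r * (k * D.r * D.r) := by rw [D.mul_r_r]
      _ = D.r * (k * D.r) * D.r := (mul_assoc _ _ _).symm
      _ = k * D.r * D.r * D.r := by rw [h1]
      _ = k * D.r := by rw [mul_assoc (k * D.r), D.r_sq, mul_one]

theorem DihData.irreducible (hirr : IrrL K V) (D : DihData K V) {W : AddSubgroup V}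
    (hW : ∀ a ∈ D.A, ∀ w ∈ W, a • w ∈ W) : W = ⊥ ∨ W = ⊤ := by
  let rW : AddSubgroup V := W.map (DistribSMul.toAddMonoidHom V D.r)
  have hrW : ∀ {v : V}, v ∈ rW ↔ ∃ w ∈ W, D.r • w = v := by
    intro v; exact Iff.rfl
  have hrWA : ∀ a ∈ D.A, ∀ v ∈ rW, a • v ∈ rW := by
    intro a ha v hv
    obtain ⟨w, hw, rfl⟩ := hrW.1 hv
    exact hrW.2 ⟨a⁻¹ • w, hW _ (inv_mem ha) w hw, by rw [← mul_smul, ← mul_smul, D.r_conj ha]⟩
  rcases hirr (W ⊓ rW) (fun k v hv => by
    obtain ⟨hv1, hv2⟩ := hv
    rcases D.cover k with hk | hk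
    · exact ⟨hW k hk v hv1, hrWA k hk v hv2⟩
    · rw [← D.mul_r_r k, mul_smul]
      refine ⟨hW _ hk _ ?_, hrWA _ hk _ (hrW.2 ⟨v, hv1, rfl⟩)⟩
      obtain ⟨w, hw, rfl⟩ := hrW.1 hv2
      rwa [← mul_smul, D.r_sq, one_smul]) with h | h
  · refine Or.inl ((AddSubgroup.eq_bot_iff_forall _).2 fun w hw => ?_)
    by_contra hw0
    obtain ⟨k, hk, hkw⟩ := D.stab w hw0
    have hkr := (D.cover k).resolve_left hk
    refine hw0 ((AddSubgroup.eq_bot_iff_forall _).1 h w ⟨hw, ?_⟩)
    rw [← hkw, ← D.mul_r_r k, mul_smul]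
    exact hrWA _ hkr _ (hrW.2 ⟨w, hw, rfl⟩)
  · exact Or.inr (top_le_iff.1 (h ▸ inf_le_left))

/-- The centraliser of `A` in the endomorphism ring. -/
def DihData.E (D : DihData K V) : Subring (AddMonoid.End V) :=
  Subring.centralizer (toEnd K V '' (D.A : Set K))

theorem DihData.E_comm {D : DihData K V} (t : D.E) {a : K} (ha : a ∈ D.A) (v : V) :
    (t : AddMonoid.End V) (a • v) = a • (t : AddMonoid.End V) v := by
  have h := Subring.mem_centralizer_iff.1 t.2 _ ⟨a, ha, rfl⟩
  exact (congrArg (fun f : AddMonoid.End V => f v) h).symm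

theorem DihData.eval_injective (hirr : IrrL K V) (D : DihData K V) :
    Function.Injective fun t : D.E => (t : AddMonoid.End V) D.x₀ := by
  intro s t hst
  let N : AddSubgroup V :=
    { carrier := {v | (s : AddMonoid.End V) v = (t : AddMonoid.End V) v}
      zero_mem' := (map_zero (s : AddMonoid.End V)).trans (map_zero (t : AddMonoid.End V)).symm
      add_mem' := fun {a b} ha hb => by
        show (s : AddMonoid.End V) (a + b) = (t : AddMonoid.End V) (a + b)
        rw [map_add, map_add, ha, hb]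
      neg_mem' := fun {a} ha => by
        show (s : AddMonoid.End V) (-a) = (t : AddMonoid.End V) (-a)
        rw [map_neg, map_neg, ha] }
  rcases D.irreducible hirr (W := N) (fun a ha w hw => by
    show (s : AddMonoid.End V) (a • w) = (t : AddMonoid.End V) (a • w)
    rw [DihData.E_comm s ha, DihData.E_comm t ha]
    exact congrArg (a • ·) hw) with h | h
  · exact absurd ((AddSubgroup.eq_bot_iff_forall _).1 h _ hst) D.x₀_ne
  · exact Subtype.ext (AddMonoidHom.ext fun v =>
      show v ∈ N from h.symm ▸ AddSubgroup.mem_top v)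

theorem DihData.exists_in_closure (hirr : IrrL K V) (D : DihData K V) (v : V) :
    ∃ c ∈ Subring.closure (toEnd K V '' (D.A : Set K)), c D.x₀ = v := by
  let U : AddSubgroup V :=
    (Subring.closure (toEnd K V '' (D.A : Set K))).toAddSubgroup.map
      (show AddMonoid.End V →+ V from
        { toFun := fun c => c D.x₀, map_zero' := rfl, map_add' := fun _ _ => rfl })
  rcases D.irreducible hirr (W := U) (fun a ha w hw => by
    obtain ⟨c, hc, rfl⟩ := hw
    exact ⟨toEnd K V a * c, Subring.mul_mem _ (Subring.subset_closure ⟨a, ha, rfl⟩) hc, rfl⟩)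
    with h | h
  · exact absurd ((AddSubgroup.eq_bot_iff_forall _).1 h D.x₀ ⟨1, Subring.one_mem _, rfl⟩) D.x₀_ne
  · exact (show v ∈ U from h.symm ▸ AddSubgroup.mem_top v)

theorem DihData.closure_le (D : DihData K V) :
    Subring.closure (toEnd K V '' (D.A : Set K)) ≤ D.E := by
  rw [Subring.closure_le]
  rintro _ ⟨a, ha, rfl⟩
  refine Subring.mem_centralizer_iff.2 ?_
  rintro _ ⟨b, hb, rfl⟩
  rw [← map_mul, D.comm b hb a ha, map_mul]

theorem DihData.eval_bijective (hirr : IrrL K V) (D : DihData K V) :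
    Function.Bijective fun t : D.E => (t : AddMonoid.End V) D.x₀ :=
  ⟨D.eval_injective hirr, fun v => by
    obtain ⟨c, hc, hcv⟩ := D.exists_in_closure hirr v
    exact ⟨⟨c, D.closure_le hc⟩, hcv⟩⟩

theorem DihData.mul_comm' (hirr : IrrL K V) (D : DihData K V) (s t : D.E) : s * t = t * s := by
  obtain ⟨c, hc, hcv⟩ := D.exists_in_closure hirr ((t : AddMonoid.End V) D.x₀)
  have htc : t = ⟨c, D.closure_le hc⟩ := D.eval_injective hirr hcv.symm
  have h : Subring.closure (toEnd K V '' (D.A : Set K)) ≤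
      Subring.centralizer {(s : AddMonoid.End V)} := by
    rw [Subring.closure_le]
    rintro x hx
    refine Subring.mem_centralizer_iff.2 ?_
    rintro _ rfl
    exact (Subring.mem_centralizer_iff.1 s.2 x hx).symm
  subst htc
  exact Subtype.ext (Subring.mem_centralizer_iff.1 (h hc) _ rfl)

theorem DihData.isField (hirr : IrrL K V) (D : DihData K V) : IsField D.E := by
  refine ⟨⟨1, 0, fun h => D.x₀_ne ?_⟩, D.mul_comm' hirr, fun {t} ht => ?_⟩
  · exact congrArg (fun s : D.E => (s : AddMonoid.End V) D.x₀) h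
  · have hker : ∀ v : V, (t : AddMonoid.End V) v = 0 → v = 0 := by
      intro v hv
      let N : AddSubgroup V := (show V →+ V from (t : AddMonoid.End V)).ker
      rcases D.irreducible hirr (W := N) (fun a ha w hw => by
        show (t : AddMonoid.End V) (a • w) = 0
        rw [DihData.E_comm t ha, show (t : AddMonoid.End V) w = 0 from hw, smul_zero]) with h | h
      · exact (AddSubgroup.eq_bot_iff_forall _).1 h v hv
      · exact absurd (D.eval_injective hirr (a₁ := t) (a₂ := 0)
          (show (t : AddMonoid.End V) D.x₀ = 0 from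
            show D.x₀ ∈ N from h.symm ▸ AddSubgroup.mem_top _)) ht
    haveI : Finite D.E := Finite.of_injective _ (D.eval_injective hirr)
    have hinj : Function.Injective fun s : D.E => t * s := fun a b hab => by
      refine D.eval_injective hirr ?_
      refine sub_eq_zero.1 (hker _ ?_)
      rw [map_sub, sub_eq_zero]
      exact congrArg (fun u : D.E => (u : AddMonoid.End V) D.x₀) hab
    exact (Finite.injective_iff_surjective.1 hinj) 1

/-- A type of a given finite size, without operations. -/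
def Carrier (n : ℕ) : Type := Fin n

/-- The group is the group of maps `x ↦ a φ(x)` with `a` of norm one. -/
theorem exists_field_model (hirr : IrrL K V) (D : DihData K V) :
    ∃ (E : Type) (_ : Field E) (_ : Fintype E) (φ : V ≃+ E) (σ : E ≃+* E),
      σ ≠ 1 ∧ σ * σ = 1 ∧
      (∀ k : K, ∃ a : E, a * σ a = 1 ∧
        ((∀ v, φ (k • v) = a * φ v) ∨ ∀ v, φ (k • v) = a * σ (φ v))) ∧
      ∀ a : E, a * σ a = 1 →
        (∃ k : K, ∀ v, φ (k • v) = a * φ v) ∧ ∃ k : K, ∀ v, φ (k • v) = a * σ (φ v) := by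
  letI : Field D.E := (D.isField hirr).toField
  haveI : Finite D.E := Finite.of_injective _ (D.eval_injective hirr)
  obtain ⟨n, ⟨e₀⟩⟩ := Finite.exists_equiv_fin D.E
  let e : D.E ≃ Carrier n := e₀
  haveI : Fintype (Carrier n) := inferInstanceAs (Fintype (Fin n))
  letI : Field (Carrier n) := e.symm.field
  let ρ : Carrier n ≃+* D.E := e.symm.ringEquiv
  let R : AddMonoid.End V := toEnd K V D.r
  have hRR : R * R = 1 := by rw [← map_mul, D.r_sq, map_one]
  have hRmem : ∀ t : D.E, R * (t : AddMonoid.End V) * R ∈ D.E := by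
    intro t
    refine Subring.mem_centralizer_iff.2 ?_
    rintro _ ⟨a, ha, rfl⟩
    have h := Subring.mem_centralizer_iff.1 t.2 _ ⟨a⁻¹, inv_mem ha, rfl⟩
    have h1 : toEnd K V a * R = R * toEnd K V a⁻¹ := by rw [← map_mul, ← map_mul, D.r_conj ha]
    have h2 : R * toEnd K V a = toEnd K V a⁻¹ * R := by
      rw [← map_mul, ← map_mul, D.r_conj (inv_mem ha), inv_inv]
    calc toEnd K V a * (R * t * R) = toEnd K V a * R * t * R := by simp only [mul_assoc]
      _ = R * (toEnd K V a⁻¹ * t) * R := by rw [h1]; simp only [mul_assoc]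
      _ = R * t * (toEnd K V a⁻¹ * R) := by rw [h]; simp only [mul_assoc]
      _ = R * t * R * toEnd K V a := by rw [← h2]; simp only [mul_assoc]
  let σ₀ : D.E ≃+* D.E :=
    { toFun := fun t => ⟨R * t * R, hRmem t⟩
      invFun := fun t => ⟨R * t * R, hRmem t⟩
      left_inv := fun t => Subtype.ext (by
        show R * (R * (t : AddMonoid.End V) * R) * R = t
        simp only [← mul_assoc, hRR, one_mul]
        rw [mul_assoc, hRR, mul_one])
      right_inv := fun t => Subtype.ext (by
        show R * (R * (t : AddMonoid.End V) * R) * R = t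
        simp only [← mul_assoc, hRR, one_mul]
        rw [mul_assoc, hRR, mul_one])
      map_mul' := fun s t => Subtype.ext (by
        show R * ((s : AddMonoid.End V) * t) * R = R * s * R * (R * t * R)
        simp only [mul_assoc]
        rw [← mul_assoc R R, hRR, one_mul])
      map_add' := fun s t => Subtype.ext (by
        show R * ((s : AddMonoid.End V) + t) * R = R * s * R + R * t * R
        rw [mul_add, add_mul]) }
  let ev : D.E ≃+ V :=
    AddEquiv.ofBijective
      (show D.E →+ V from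
        { toFun := fun t => (t : AddMonoid.End V) D.x₀, map_zero' := rfl,
          map_add' := fun _ _ => rfl })
      (D.eval_bijective hirr)
  let emb : ∀ a ∈ D.A, D.E := fun a ha =>
    ⟨toEnd K V a, D.closure_le (Subring.subset_closure ⟨a, ha, rfl⟩)⟩
  let σ : Carrier n ≃+* Carrier n := ρ.trans (σ₀.trans ρ.symm)
  let φ : V ≃+ Carrier n := ev.symm.trans ρ.symm.toAddEquiv
  have hφ : ∀ v, φ v = ρ.symm (ev.symm v) := fun _ => rfl
  have hσ : ∀ x, σ x = ρ.symm (σ₀ (ρ x)) := fun _ => rfl
  have hr : ∀ v, φ (D.r • v) = σ (φ v) := by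
    intro v
    rw [hσ, hφ, hφ, ρ.apply_symm_apply]
    congr 1
    rw [AddEquiv.symm_apply_eq]
    show D.r • v = (R * (ev.symm v : AddMonoid.End V) * R) D.x₀
    show D.r • v = D.r • ((ev.symm v : AddMonoid.End V) (D.r • D.x₀))
    rw [D.r_fix]
    exact congrArg (D.r • ·) (ev.apply_symm_apply v).symm
  have ha : ∀ a (h : a ∈ D.A) v, φ (a • v) = ρ.symm (emb a h) * φ v := by
    intro a h v
    rw [hφ, hφ, ← map_mul]
    congr 1
    rw [AddEquiv.symm_apply_eq]
    show a • v = a • ((ev.symm v : AddMonoid.End V) D.x₀)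
    exact congrArg (a • ·) (ev.apply_symm_apply v).symm
  have hN : ∀ a (h : a ∈ D.A), ρ.symm (emb a h) * σ (ρ.symm (emb a h)) = 1 := by
    intro a h
    rw [hσ, ρ.apply_symm_apply, ← map_mul, ← map_one ρ.symm]
    congr 1
    refine Subtype.ext ?_
    show toEnd K V a * (toEnd K V D.r * toEnd K V a * toEnd K V D.r) = 1
    rw [← map_mul, ← map_mul, ← map_mul, D.inv a h, mul_inv_cancel, map_one]
  obtain ⟨a₀, ha₀, ha₀'⟩ := D.exists_sq_ne_one hirr
  have hσ1 : σ ≠ 1 := by
    intro h1
    refine ha₀' (eq_of_smul_eq_smul (α := V) fun v => φ.injective ?_)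
    have hn := hN a₀ ha₀
    rw [show σ (ρ.symm (emb a₀ ha₀)) = ρ.symm (emb a₀ ha₀) by rw [h1]; rfl] at hn
    rw [mul_smul, ha a₀ ha₀, ha a₀ ha₀, ← mul_assoc, hn, one_mul, one_smul]
  refine ⟨Carrier n, inferInstance, inferInstance, φ, σ, hσ1, RingEquiv.ext fun x => ?_, ?_, ?_⟩
  · show σ (σ x) = x
    rw [hσ, hσ, ρ.apply_symm_apply]
    rw [show σ₀ (σ₀ (ρ x)) = ρ x from σ₀.left_inv _, ρ.symm_apply_apply]
  · intro k
    rcases D.cover k with hk | hk
    · exact ⟨_, hN k hk, Or.inl (ha k hk)⟩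
    · refine ⟨_, hN _ hk, Or.inr fun v => ?_⟩
      rw [← hr, ← ha _ hk, ← mul_smul, D.mul_r_r]
  · intro a hNa
    obtain ⟨l, hl, hal⟩ : ∃ l : Carrier n, l ≠ 0 ∧ a * σ l = l := by
      by_cases h : 1 + a = 0
      · obtain ⟨θ, hθ⟩ : ∃ θ : Carrier n, σ θ ≠ θ := by
          by_contra! h'
          exact hσ1 (RingEquiv.ext h')
        refine ⟨θ - σ θ, sub_ne_zero.2 hθ.symm, ?_⟩
        have hss : σ (σ θ) = θ := by
          rw [hσ, hσ, ρ.apply_symm_apply]
          rw [show σ₀ (σ₀ (ρ θ)) = ρ θ from σ₀.left_inv _, ρ.symm_apply_apply]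
        rw [map_sub, hss, eq_neg_of_add_eq_zero_right h]
        ring
      · exact ⟨1 + a, h, by rw [map_add, map_one, mul_add, mul_one, hNa, add_comm]⟩
    obtain ⟨k, hk, hkl⟩ := D.stab (φ.symm l) fun h => hl (by
      rw [← φ.apply_symm_apply l, h, map_zero])
    have hkr := (D.cover k).resolve_left hk
    have h1 := congrArg φ hkl
    rw [← D.mul_r_r k, mul_smul, ha _ hkr, hr, φ.apply_symm_apply] at h1
    have hσl : σ l ≠ 0 := by rwa [Ne, EmbeddingLike.map_eq_zero_iff]
    have hb : ρ.symm (emb _ hkr) = a := mul_right_cancel₀ hσl (h1.trans hal.symm)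
    refine ⟨⟨k * D.r, fun v => by rw [ha _ hkr, hb]⟩, k, fun v => ?_⟩
    rw [← D.mul_r_r k, mul_smul, ha _ hkr, hr, hb]

end CfsgLib.KnownA.BinaryAffine
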