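import Cfsg.Agent.Lib.KnownA.BinaryAffine.Basic

/-!
# Binary linear groups in characteristic two: Sylow 2-subgroups
-/

set_option autoImplicit false
set_option linter.unusedSectionVars false

namespace CfsgLib.KnownA.BinaryAffine

variable {K V : Type*} [Group K] [Finite K] [AddCommGroup V] [Finite V] [DistribMulAction K V]
  [FaithfulSMul K V]

theorem add_add_self (h2 : ∀ v : V, v + v = 0) (u v : V) : u + (u + v) = v := by
  rw [← add_assoc, h2, zero_add]

theorem sub_eq_add' (h2 : ∀ v : V, v + v = 0) (u v : V) : u - v = u + v := by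
  rw [sub_eq_add_neg, neg_eq_of_add_eq_zero_left (h2 v)]

theorem add_eq_zero_iff' (h2 : ∀ v : V, v + v = 0) {u v : V} : u + v = 0 ↔ u = v := by
  rw [← sub_eq_add' h2, sub_eq_zero]

/-- What commutes with an involution fixes its commutator vectors. -/
theorem fix_commutator (hb : BinL K V) (h2 : ∀ v : V, v + v = 0) {t g : K} (ht : t * t = 1)
    (hgt : g * t = t * g) (v : V) : g • (t • v + v) = t • v + v := by
  have htt : ∀ x : V, t • t • x = x := fun x => by rw [← mul_smul, ht, one_smul]
  have hfix : t • (t • v + v) = t • v + v := by rw [smul_add, htt, add_comm]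
  have hexp : g • (t • v + v) = t • (g • v) + g • v := by
    rw [smul_add, ← mul_smul, hgt, mul_smul]
  have hw := hb.translate (g := t) (k := g) (u := t • v + v) (v := g • v + v) hfix (by
    rw [sub_eq_add' h2, hexp, smul_add]
    calc t • g • v + g • v = t • g • v + g • v + ((t • v + t • v) + (v + v)) := by
          rw [h2, h2, add_zero, add_zero]
      _ = _ := by abel)
  rw [smul_add] at hw
  rw [hexp, ← add_eq_zero_iff' h2]
  rw [← add_eq_zero_iff' h2] at hw
  rw [← hw]; abel

/-- If `t` fixes `w` and moves `v` by `δ`, then no element moves `w` by `δ`. -/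
theorem no_common_shift (hb : BinL K V) {t h : K} {v w δ : V} (hv : t • v = v + δ)
    (hw : t • w = w) (hh : h • w = w + δ) : δ = 0 :=
  hb.triple (k := t) hv hh (by rw [smul_add, hv, hw]; abel)

/-- A 2-subgroup of the group has exponent two. -/
theorem sq_eq_one_of_pow_four (hb : BinL K V) (h2 : ∀ v : V, v + v = 0) {g : K}
    (hg : g ^ 4 = 1) : g * g = 1 := by
  have ht : (g * g) * (g * g) = 1 := by
    rw [← hg]; simp only [pow_succ, pow_zero, one_mul, mul_assoc]
  refine eq_of_smul_eq_smul (α := V) fun v => ?_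
  rw [one_smul]
  have he : (g * g) • (g • v + v) = g • v + v := by
    have := fix_commutator hb h2 (g := g) ht (by group) v
    rw [smul_add, ← mul_smul, mul_assoc, mul_smul, mul_smul] at *
    rw [← add_eq_zero_iff' h2] at this ⊢
    rw [← this]; abel
  have hδ := no_common_shift hb (t := g * g) (h := g) (v := v) (w := g • v + v)
    (δ := (g * g) • v + v) (by rw [add_comm ((g * g) • v), add_add_self h2]) he
    (by
      rw [smul_add, mul_smul]
      calc g • g • v + g • v = g • v + g • g • v + (v + v) := by rw [h2, add_zero, add_comm]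
        _ = _ := by abel)
  exact (add_eq_zero_iff' h2).1 hδ

theorem sq_eq_one_of_two_power (hb : BinL K V) (h2 : ∀ v : V, v + v = 0) {g : K} :
    ∀ k : ℕ, g ^ (2 ^ k) = 1 → g * g = 1 := by
  intro k
  induction k generalizing g with
  | zero => intro h; rw [pow_zero, pow_one] at h; rw [h, one_mul]
  | succ k ih =>
    intro h
    have h' : (g ^ 2) ^ (2 ^ k) = 1 := by rw [← pow_mul, ← pow_succ']; exact h
    exact sq_eq_one_of_pow_four hb h2 (by rw [show g ^ 4 = g ^ 2 * g ^ 2 by group, ih h'])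

variable (S : Sylow 2 K)

theorem sylow_sq (hb : BinL K V) (h2 : ∀ v : V, v + v = 0) {s : K} (hs : s ∈ (S : Subgroup K)) :
    s * s = 1 := by
  obtain ⟨k, hk⟩ := S.2 ⟨s, hs⟩
  exact sq_eq_one_of_two_power hb h2 k (by
    have := congrArg Subtype.val hk
    simpa using this)

theorem sylow_comm (hb : BinL K V) (h2 : ∀ v : V, v + v = 0) {s t : K}
    (hs : s ∈ (S : Subgroup K)) (ht : t ∈ (S : Subgroup K)) : s * t = t * s := by
  have e := sylow_sq S hb h2 (mul_mem hs ht)
  rw [← inv_eq_iff_mul_eq_one] at e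
  rw [← e, mul_inv_rev, inv_eq_iff_mul_eq_one.2 (sylow_sq S hb h2 hs),
    inv_eq_iff_mul_eq_one.2 (sylow_sq S hb h2 ht)]

/-- Two images fixed by a Sylow 2-subgroup are equal. -/
theorem eq_of_sylow_fixed (hb : BinL K V) (h2 : ∀ v : V, v + v = 0) {x y : V}
    (hx : ∀ s ∈ (S : Subgroup K), s • x = x) (hy : ∀ s ∈ (S : Subgroup K), s • y = y) {h : K}
    (hxy : h • x = y) : x = y := by
  obtain ⟨s, hs1, hs2⟩ := hb.swap h x
  rw [hxy] at hs1 hs2
  let J : Subgroup K := MulAction.stabilizer K (x + y) ⊓ MulAction.stabilizer K y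
  have hSJ : (S : Subgroup K) ≤ J := fun t ht => Subgroup.mem_inf.2
    ⟨MulAction.mem_stabilizer_iff.2 (by rw [smul_add, hx t ht, hy t ht]),
      MulAction.mem_stabilizer_iff.2 (hy t ht)⟩
  have hsi1 : s⁻¹ • x = y := inv_smul_eq_iff.2 hs2.symm
  have hsi2 : s⁻¹ • y = x := inv_smul_eq_iff.2 hs1.symm
  have hS'J : ((s • S : Sylow 2 K) : Subgroup K) ≤ J := by
    intro a ha
    rw [Sylow.coe_subgroup_smul, ← SetLike.mem_coe, Subgroup.coe_pointwise_smul,
      Set.mem_smul_set] at ha
    obtain ⟨t, ht, rfl⟩ := ha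
    have e : ∀ z : V, (MulAut.conj s • t) • z = s • t • s⁻¹ • z := fun z => by
      rw [← mul_smul, ← mul_smul, MulAut.smul_def, MulAut.conj_apply]
    refine Subgroup.mem_inf.2 ⟨MulAction.mem_stabilizer_iff.2 ?_,
      MulAction.mem_stabilizer_iff.2 ?_⟩
    · rw [e, smul_add, hsi1, hsi2, smul_add, hx t ht, hy t ht, smul_add, hs1, hs2, add_comm]
    · rw [e, hsi2, hx t ht, hs1]
  obtain ⟨k, hk⟩ := MulAction.exists_smul_eq J ((s • S : Sylow 2 K).subtype hS'J)
    (S.subtype hSJ)
  simp_rw [Sylow.smul_subtype, Subgroup.smul_def, smul_smul] at hk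
  have hk' := Sylow.subtype_injective hk
  have hn : (k : K) * s ∈ Subgroup.normalizer ((S : Subgroup K) : Set K) := by
    exact Sylow.smul_eq_iff_mem_normalizer.1 hk'
  obtain ⟨hkz, hky⟩ := Subgroup.mem_inf.1 k.2
  rw [MulAction.mem_stabilizer_iff] at hkz hky
  have hkx : (k : K) • x = x := by
    rw [smul_add, hky] at hkz
    exact add_right_cancel hkz
  have hnx : ((k : K) * s) • x = y := by rw [mul_smul, hs1, hky]
  have hny : ((k : K) * s) • y = x := by rw [mul_smul, hs2, hkx]
  set n := (k : K) * s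
  let m := ordCompl[2] (orderOf n)
  have hm : ¬ 2 ∣ m := Nat.not_dvd_ordCompl Nat.prime_two (orderOf_pos n).ne'
  have hpow : ∀ j : ℕ, n ^ j • x = if Even j then x else y := by
    intro j
    induction j with
    | zero => simp
    | succ j ih =>
      rw [pow_succ', mul_smul, ih]
      rcases Nat.even_or_odd j with he | ho
      · rw [if_pos he, hnx, if_neg (by rw [Nat.even_add_one]; exact not_not.2 he)]
      · rw [if_neg (Nat.not_even_iff_odd.2 ho), hny,
          if_pos (by rw [Nat.even_add_one]; exact Nat.not_even_iff_odd.2 ho)]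
  have hmem : n ^ m ∈ (S : Subgroup K) := by
    have hp : IsPGroup 2 (Subgroup.zpowers (n ^ m)) := by
      refine IsPGroup.of_card (n := (orderOf n).factorization 2) ?_
      rw [Nat.card_zpowers, orderOf_pow, Nat.gcd_eq_right (Nat.ordCompl_dvd _ _)]
      refine Nat.div_eq_of_eq_mul_left (Nat.ordCompl_pos 2 (orderOf_pos n).ne') ?_
      exact (Nat.ordProj_mul_ordCompl_eq_self _ 2).symm
    have h3 := hp.to_sup_of_normal_right' S.2
      (Subgroup.zpowers_le.2 (pow_mem hn m))
    have h4 := S.3 h3 le_sup_right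
    exact (h4 ▸ le_sup_left) (Subgroup.mem_zpowers _)
  have h5 := hpow m
  rw [hx _ hmem, if_neg (fun he => hm he.two_dvd)] at h5
  exact h5

/-- The normaliser of a Sylow 2-subgroup centralises it. -/
theorem normalizer_le_centralizer (hb : BinL K V) (h2 : ∀ v : V, v + v = 0) :
    Subgroup.normalizer ((S : Subgroup K) : Set K) ≤
      Subgroup.centralizer ((S : Subgroup K) : Set K) := by
  intro h hh
  rw [Subgroup.mem_centralizer_iff]
  intro z hz
  have hz' : h * z * h⁻¹ ∈ (S : Subgroup K) := (Subgroup.mem_normalizer_iff.1 hh z).1 hz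
  set z' := h * z * h⁻¹ with hz'def
  suffices z' = z by rw [hz'def, mul_inv_eq_iff_eq_mul] at this; exact this.symm
  refine eq_of_smul_eq_smul (α := V) fun v => ?_
  have hzz := sylow_sq S hb h2 hz
  have hzz' := sylow_sq S hb h2 hz'
  set d' := z' • v + v with hd'
  have hWd : ∀ s ∈ (S : Subgroup K), s • d' = d' := fun s hs =>
    fix_commutator hb h2 hzz' (sylow_comm S hb h2 hs hz') v
  have hWd2 : ∀ s ∈ (S : Subgroup K), s • (h⁻¹ • d') = h⁻¹ • d' := fun s hs => by
    rw [eq_inv_smul_iff, ← mul_smul, ← mul_smul,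
      hWd _ ((Subgroup.mem_normalizer_iff.1 hh s).1 hs)]
  have hfix : h⁻¹ • d' = d' := (eq_of_sylow_fixed S hb h2 hWd hWd2 rfl).symm
  have hhz : ∀ w : V, z • h⁻¹ • w = h⁻¹ • z' • w := fun w => by
    rw [← mul_smul, ← mul_smul, hz'def]; congr 1; group
  set d := z • v + v with hd
  have hW2 : ∀ s ∈ (S : Subgroup K), s • d = d := fun s hs =>
    fix_commutator hb h2 hzz (sylow_comm S hb h2 hs hz) v
  have e1 : ∀ w u : V, w + (u + w) = u := fun w u => by rw [add_comm u, add_add_self h2]
  have hzv : z • v = v + d := by rw [hd, e1]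
  have hz'v : z' • v = v + d' := by rw [hd', e1]
  have hδ := hb.triple (g := z * z') (h := h⁻¹ * (z * z') * h) (k := z) (v := v) (w := h⁻¹ • v)
    (δ := d + d')
    (by rw [mul_smul, hz'v, smul_add, hzv, hWd z hz]; abel)
    (by
      have hfd : h⁻¹ • d = d := (eq_of_sylow_fixed S hb h2 hW2 (fun s hs => by
        rw [eq_inv_smul_iff, ← mul_smul, ← mul_smul,
          hW2 _ ((Subgroup.mem_normalizer_iff.1 hh s).1 hs)]) rfl).symm
      rw [mul_smul, mul_smul, smul_inv_smul, mul_smul, hz'v, smul_add z, hzv, hWd z hz,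
        smul_add, smul_add, hfd, hfix]
      abel)
    (by
      rw [smul_add, hzv, hhz, hz'v, smul_add, hfix]
      abel)
  rw [hzv, hz'v, (add_eq_zero_iff' h2).1 hδ]

end CfsgLib.KnownA.BinaryAffine
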