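import Cfsg.Agent.Lib.KnownA.BinaryAffine.Even
import Cfsg.Agent.Lib.FT.OddOrderTheorem

/-!
# Binary irreducible linear groups in characteristic two
-/

set_option autoImplicit false
set_option linter.unusedSectionVars false

namespace CfsgLib.KnownA.BinaryAffine

variable {K V : Type*} [Group K] [Finite K] [AddCommGroup V] [Finite V] [DistribMulAction K V]
  [FaithfulSMul K V]

/-- An element of odd order fixing one of its commutator vectors annihilates it. -/
theorem coprime_fix (h2 : ∀ v : V, v + v = 0) {f : K} (hf : Odd (orderOf f)) {v : V}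
    (he : f • (f • v + v) = f • v + v) : f • v + v = 0 := by
  have hind : ∀ n : ℕ, f ^ n • v = v + n • (f • v + v) := by
    intro n
    induction n with
    | zero => simp
    | succ n ih =>
      rw [pow_succ', mul_smul, ih, smul_add,
        show f • (n • (f • v + v)) = n • (f • v + v) by rw [← smul_comm, he], succ_nsmul']
      have : v + (f • v + v + n • (f • v + v)) = f • v + n • (f • v + v) + (v + v) := by abel
      rw [this, h2, add_zero]
  have h := hind (orderOf f)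
  rw [pow_orderOf_eq_one, one_smul] at h
  obtain ⟨m, hm⟩ := hf
  rw [hm, add_nsmul, mul_comm, mul_nsmul', one_nsmul, two_nsmul, h2, nsmul_zero, zero_add] at h
  exact add_left_cancel (h.symm.trans (add_zero v).symm)

theorem moved_of_ne_one {g : K} (hg : g ≠ 1) : ∃ v : V, g • v ≠ v := by
  by_contra! h
  exact hg (eq_of_smul_eq_smul (α := V) fun v => by rw [one_smul, h v])

/-- The commutator subspace of an element. -/
def diffRange (f : K) : AddSubgroup V where
  carrier := Set.range fun v => f • v + v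
  zero_mem' := ⟨0, by simp⟩
  add_mem' := by
    rintro _ _ ⟨a, rfl⟩ ⟨b, rfl⟩
    exact ⟨a + b, by simp only [smul_add]; abel⟩
  neg_mem' := by
    rintro _ ⟨a, rfl⟩
    exact ⟨-a, by simp only [smul_neg]; abel⟩

theorem centralizer_sylow_odd (hb : BinL K V) (h2 : ∀ v : V, v + v = 0) (S : Sylow 2 K) {f : K}
    (hf : Odd (orderOf f)) (hfS : ∀ s ∈ (S : Subgroup K), f * s = s * f) : f = 1 := by
  by_contra hne
  obtain ⟨v₀, hv₀⟩ := moved_of_ne_one (V := V) hne
  let M : AddSubgroup V := diffRange f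
  have hm₀ : f • v₀ + v₀ ∈ M := ⟨v₀, rfl⟩
  have hm₀' : f • v₀ + v₀ ≠ 0 := fun h => hv₀ ((add_eq_zero_iff' h2).1 h)
  have hMS : ∀ s : (S : Subgroup K), ∀ m ∈ M, (s : K) • m ∈ M := by
    rintro s _ ⟨v, rfl⟩
    exact ⟨(s : K) • v, by simp only [smul_add, ← mul_smul, hfS s s.2]⟩
  letI : MulAction (S : Subgroup K) M :=
    { smul := fun s m => ⟨(s : K) • (m : V), hMS s m m.2⟩
      one_smul := fun m => Subtype.ext (one_smul K (m : V))
      mul_smul := fun s t m => Subtype.ext (mul_smul (s : K) (t : K) (m : V)) }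
  have h2M : 2 ∣ Nat.card M := by
    have : addOrderOf (⟨_, hm₀⟩ : M) = 2 := addOrderOf_eq_prime (Subtype.ext (by
      simp only [two_nsmul, AddSubgroup.coe_add, ZeroMemClass.coe_zero, h2]))
      (fun h => hm₀' (congrArg Subtype.val h))
    rw [← this]
    exact addOrderOf_dvd_natCard _
  obtain ⟨⟨m, hm⟩, hfix, hne0⟩ := S.2.exists_fixed_point_of_prime_dvd_card_of_fixed_point M h2M
    (a := 0) (fun s => Subtype.ext (smul_zero (s : K)))
  have hmS : ∀ s ∈ (S : Subgroup K), s • m = m := fun s hs => congrArg Subtype.val (hfix ⟨s, hs⟩)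
  have hfm : ∀ s ∈ (S : Subgroup K), s • (f • m) = f • m := fun s hs => by
    rw [← mul_smul, ← hfS s hs, mul_smul, hmS s hs]
  have hfix' : f • m = m := (eq_of_sylow_fixed S hb h2 hmS hfm rfl).symm
  obtain ⟨v, rfl⟩ := hm
  exact hne0 (Subtype.ext (coprime_fix h2 hf hfix').symm)

theorem exists_dihData_two (hb : BinL K V) (hirr : IrrL K V) (h2 : ∀ v : V, v + v = 0)
    (hnc : ∃ g h : K, g * h ≠ h * g) : Nonempty (DihData K V) := by
  obtain ⟨S⟩ : Nonempty (Sylow 2 K) := inferInstance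
  have hN := normalizer_le_centralizer S hb h2
  have hcompl := MonoidHom.ker_transferSylow_isComplement' S hN
  set A : Subgroup K := (MonoidHom.transferSylow S hN).ker with hAdef
  have hAn : A.Normal := MonoidHom.normal_ker _
  have hAodd : Odd (Nat.card A) := by
    rw [Nat.odd_iff, ← Nat.two_dvd_ne_zero]
    exact MonoidHom.not_dvd_card_ker_transferSylow S hN
  have hodd : ∀ {a : K}, a ∈ A → Odd (orderOf a) := fun ha =>
    Odd.of_dvd_nat hAodd (A.orderOf_dvd_natCard ha)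
  have hAS : ∀ k : K, ∃ a ∈ A, ∃ s ∈ (S : Subgroup K), k = a * s := fun k => by
    obtain ⟨⟨⟨a, ha⟩, ⟨s, hs⟩⟩, h⟩ := hcompl.2 k
    exact ⟨a, ha, s, hs, h.symm⟩
  have hCA : ∀ a ∈ A, (∀ s ∈ (S : Subgroup K), a * s = s * a) → a = 1 := fun a ha h =>
    centralizer_sylow_odd hb h2 S (hodd ha) h
  have hNS : Subgroup.normalizer ((S : Subgroup K) : Set K) ≤ S := by
    intro n hn
    obtain ⟨a, ha, s, hs, rfl⟩ := hAS n
    have ha' := (Subgroup.mul_mem_cancel_right _ (Subgroup.le_normalizer hs)).1 hn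
    have := hN ha'
    rw [hCA a ha fun t ht => (Subgroup.mem_centralizer_iff.1 this t ht).symm, one_mul]
    exact hs
  obtain ⟨g₀, h₀, hgh⟩ := hnc
  have hA1 : A ≠ ⊥ := by
    intro h
    obtain ⟨a, ha, s, hs, rfl⟩ := hAS g₀
    obtain ⟨b, hb', t, ht, rfl⟩ := hAS h₀
    rw [h, Subgroup.mem_bot] at ha hb'
    subst ha hb'
    exact hgh (by simpa using sylow_comm S hb h2 hs ht)
  -- a nontrivial abelian normal subgroup of odd order
  obtain ⟨R, hRn, hRA, hR1, hRc⟩ : ∃ R : Subgroup K, R.Normal ∧ R ≤ A ∧ R ≠ ⊥ ∧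
      ∀ a ∈ R, ∀ b ∈ R, a * b = b * a := by
    classical
    have hsol : ∃ n, derivedSeries ↥A n = ⊥ :=
      (Group.isSolvable_def _).1 (CfsgLib.FT.isSolvable_of_odd hAodd)
    have hne : Nat.find hsol ≠ 0 := by
      intro h
      have := Nat.find_spec hsol
      rw [h, derivedSeries_zero] at this
      refine hA1 ((Subgroup.eq_bot_iff_forall A).2 fun a ha => ?_)
      have h' : (⟨a, ha⟩ : A) ∈ (⊥ : Subgroup A) := this ▸ Subgroup.mem_top _
      exact congrArg Subtype.val (Subgroup.mem_bot.1 h')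
    obtain ⟨n, hn⟩ := Nat.exists_eq_succ_of_ne_zero hne
    refine ⟨(derivedSeries ↥A n).map A.subtype, inferInstance, Subgroup.map_subtype_le _, ?_, ?_⟩
    · rw [Ne, Subgroup.map_eq_bot_iff_of_injective _ A.subtype_injective]
      exact Nat.find_min hsol (by omega)
    · rintro _ ⟨a, ha, rfl⟩ _ ⟨b, hb', rfl⟩
      have h0 := Nat.find_spec hsol
      rw [hn, derivedSeries_succ] at h0
      have := Subgroup.commutator_eq_bot_iff_le_centralizer.1 h0 ha
      exact congrArg A.subtype (Subgroup.mem_centralizer_iff.1 this b hb').symm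
  have hS2 : ∀ s ∈ (S : Subgroup K), s * s = 1 := fun s hs => sylow_sq S hb h2 hs
  -- fixed spaces in `R` are invariant under the Sylow subgroup
  have hinv : ∀ ρ ∈ R, ∀ s ∈ (S : Subgroup K), ∀ v : V, ρ • v = v → (s * ρ * s⁻¹) • v = v := by
    intro ρ hρ s hs v hv
    have hs' : s⁻¹ = s := inv_eq_iff_mul_eq_one.2 (hS2 s hs)
    have hρ' : s * ρ * s⁻¹ ∈ R := hRn.conj_mem ρ hρ s
    rw [hs'] at hρ' ⊢
    have hcomm : ρ * (s * ρ * s) = s * ρ * s * ρ := hRc _ hρ _ hρ'
    have hc : ρ * (s * ρ * s) * s = s * (ρ * (s * ρ * s)) :=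
      calc ρ * (s * ρ * s) * s = ρ * s * ρ * (s * s) := by simp only [mul_assoc]
        _ = s * s * (ρ * s * ρ) := by rw [hS2 s hs, mul_one, one_mul]
        _ = s * (s * ρ * s * ρ) := by simp only [mul_assoc]
        _ = _ := by rw [← hcomm]
    have hu := fix_commutator hb h2 (hS2 s hs) hc v
    have e1 : (ρ * (s * ρ * s)) • (s • v) = ρ • s • v := by
      rw [← mul_smul, show ρ * (s * ρ * s) * s = ρ * s * ρ * (s * s) by simp only [mul_assoc],
        hS2 s hs, mul_one, mul_smul, hv, mul_smul]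
    have e2 : (ρ * (s * ρ * s)) • v = (s * ρ * s) • v := by rw [hcomm, mul_smul, hv]
    rw [smul_add, e1, e2] at hu
    refine (add_eq_zero_iff' h2).1 ?_
    have e3 : (s * ρ * s) • v + v = ρ • s • v + s • v := by
      rw [← add_eq_zero_iff' h2] at hu ⊢
      rw [← hu]; abel
    rw [e3]
    refine coprime_fix h2 (hodd (hRA hρ)) ?_
    rw [← e3, smul_add, ← mul_smul, hcomm, mul_smul, hv]
  have hall : ∀ k : K, ∀ ρ ∈ R, ∀ v : V, ρ • v = v → (k * ρ * k⁻¹) • v = v := by
    let N := Subgroup.normalClosure ((S : Subgroup K) : Set K)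
    have hN' : N = ⊤ := by
      have h1 := Sylow.normalizer_sup_eq_top' S (N := N) Subgroup.le_normalClosure
      exact (sup_eq_right.2 (hNS.trans Subgroup.le_normalClosure)).symm.trans h1
    intro k
    have hk : k ∈ Subgroup.closure (Group.conjugatesOfSet ((S : Subgroup K) : Set K)) := by
      have : k ∈ N := hN' ▸ Subgroup.mem_top k
      exact this
    have hgen : ∀ x ∈ Group.conjugatesOfSet ((S : Subgroup K) : Set K), ∀ ρ ∈ R, ∀ v : V,
        ρ • v = v → (x * ρ * x⁻¹) • v = v := by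
      intro x hx ρ hρ v hv
      obtain ⟨s, hs, hsx⟩ := Group.mem_conjugatesOfSet_iff.1 hx
      obtain ⟨a, rfl⟩ := isConj_iff.1 hsx
      have := hinv (a⁻¹ * ρ * a⁻¹⁻¹) (hRn.conj_mem ρ hρ a⁻¹) s hs (a⁻¹ • v) (by
        rw [inv_inv, mul_smul, mul_smul, smul_inv_smul, hv])
      rw [← mul_smul, eq_inv_smul_iff, ← mul_smul] at this
      rw [show a * s * a⁻¹ * ρ * (a * s * a⁻¹)⁻¹ = a * (s * (a⁻¹ * ρ * a⁻¹⁻¹) * s⁻¹ * a⁻¹) by
        group]
      exact this
    induction hk using Subgroup.closure_induction'' with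
    | one => intro ρ _ v hv; simpa using hv
    | mem x hx => exact hgen x hx
    | inv_mem x hx =>
      obtain ⟨s, hs, hsx⟩ := Group.mem_conjugatesOfSet_iff.1 hx
      obtain ⟨a, rfl⟩ := isConj_iff.1 hsx
      rw [show (a * s * a⁻¹)⁻¹ = a * s⁻¹ * a⁻¹ by group]
      exact hgen _ (Group.mem_conjugatesOfSet_iff.2 ⟨s⁻¹, inv_mem hs, isConj_iff.2 ⟨a, rfl⟩⟩)
    | mul x y _ _ hx hy =>
      intro ρ hρ v hv
      have := hx _ (hRn.conj_mem ρ hρ y) v (hy ρ hρ v hv)
      rwa [show x * y * ρ * (x * y)⁻¹ = x * (y * ρ * y⁻¹) * x⁻¹ by group]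
  have hRfpf : ∀ ρ ∈ R, ∀ v : V, v ≠ 0 → ρ • v = v → ρ = 1 := by
    intro ρ hρ v hv hρv
    rcases hirr (fixAdd ρ) (fun k w hw => by
      have h := hall k⁻¹ ρ hρ w hw
      simp only [mul_smul, inv_inv, inv_smul_eq_iff] at h
      exact h) with h | h
    · exact absurd ((AddSubgroup.eq_bot_iff_forall _).1 h v hρv) hv
    · refine eq_of_smul_eq_smul (α := V) fun w => ?_
      rw [one_smul]
      exact mem_fixAdd.1 (h ▸ AddSubgroup.mem_top w)
  have hinvR : ∀ s ∈ (S : Subgroup K), s ≠ 1 → ∀ ρ ∈ R, s * ρ * s = ρ⁻¹ := by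
    intro s hs hs1 ρ hρ
    have hs' : s⁻¹ = s := inv_eq_iff_mul_eq_one.2 (hS2 s hs)
    obtain ⟨v, hv⟩ := moved_of_ne_one (V := V) hs1
    have hρ' : s * ρ * s ∈ R := by simpa [hs'] using hRn.conj_mem ρ hρ s
    have hc : ρ * (s * ρ * s) * s = s * (ρ * (s * ρ * s)) :=
      calc ρ * (s * ρ * s) * s = ρ * s * ρ * (s * s) := by simp only [mul_assoc]
        _ = s * s * (ρ * s * ρ) := by rw [hS2 s hs, mul_one, one_mul]
        _ = s * (s * ρ * s * ρ) := by simp only [mul_assoc]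
        _ = _ := by rw [hRc _ hρ' _ hρ]
    have := hRfpf _ (mul_mem hρ hρ') _ (fun h => hv ((add_eq_zero_iff' h2).1 h))
      (fix_commutator hb h2 (hS2 s hs) hc v)
    exact eq_inv_of_mul_eq_one_right this
  haveI : Nontrivial R := (Subgroup.nontrivial_iff_ne_bot R).2 hR1
  obtain ⟨⟨ρ, hρR⟩, hρne⟩ := exists_ne (1 : R)
  have hρ1 : ρ ≠ 1 := fun h => hρne (Subtype.ext h)
  have huniq : ∀ s ∈ (S : Subgroup K), ∀ t ∈ (S : Subgroup K), s ≠ 1 → t ≠ 1 → s = t := by
    intro s hs t ht hs1 ht1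
    by_contra hst
    have hst1 : s * t ≠ 1 := by
      rw [Ne, ← inv_eq_iff_mul_eq_one, inv_eq_iff_mul_eq_one.2 (hS2 s hs)]
      exact hst
    have h := hinvR (s * t) (mul_mem hs ht) hst1 ρ hρR
    nth_rw 2 [sylow_comm S hb h2 hs ht] at h
    rw [show s * t * ρ * (t * s) = s * (t * ρ * t) * s by simp only [mul_assoc],
      hinvR t ht ht1 ρ hρR, hinvR s hs hs1 _ (inv_mem hρR), inv_inv] at h
    refine hρ1 (orderOf_eq_one_iff.1 ?_)
    obtain ⟨m, hm⟩ := hodd (hRA hρR)
    have h3 : orderOf ρ ∣ 2 := orderOf_dvd_of_pow_eq_one (by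
      rw [pow_two]; nth_rw 1 [h]; exact inv_mul_cancel ρ)
    rcases (Nat.dvd_prime Nat.prime_two).1 h3 with h4 | h4 <;> omega
  obtain ⟨z, hz, hz1⟩ : ∃ z ∈ (S : Subgroup K), z ≠ 1 := by
    by_contra! h
    obtain ⟨a, ha, ha'⟩ : ∃ a ∈ A, a ≠ 1 := by
      by_contra! h'
      exact hA1 ((Subgroup.eq_bot_iff_forall A).2 h')
    exact ha' (hCA a ha fun s hs => by rw [h s hs, mul_one, one_mul])
  have hzz := hS2 z hz
  have hz' : z⁻¹ = z := inv_eq_iff_mul_eq_one.2 hzz
  have hzCA : ∀ a ∈ A, a * z = z * a → a = 1 := fun a ha h => hCA a ha fun s hs => by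
    by_cases hs1 : s = 1
    · rw [hs1, mul_one, one_mul]
    · rwa [huniq s hs z hz hs1 hz1]
  have hinvA : ∀ a ∈ A, z * a * z = a⁻¹ := by
    let φ : A → A := fun a =>
      ⟨(a : K)⁻¹ * (z * a * z⁻¹), mul_mem (inv_mem a.2) (hAn.conj_mem _ a.2 z)⟩
    have hφ : Function.Injective φ := by
      rintro ⟨a, ha⟩ ⟨b, hb'⟩ h
      have h' : a⁻¹ * (z * a * z⁻¹) = b⁻¹ * (z * b * z⁻¹) := congrArg Subtype.val h
      have : b * a⁻¹ * z = z * (b * a⁻¹) :=
        calc b * a⁻¹ * z = b * (a⁻¹ * (z * a * z⁻¹)) * (z * a⁻¹) := by group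
          _ = b * (b⁻¹ * (z * b * z⁻¹)) * (z * a⁻¹) := by rw [h']
          _ = _ := by group
      exact Subtype.ext (mul_inv_eq_one.1 (hzCA _ (mul_mem hb' (inv_mem ha)) this)).symm
    intro a ha
    obtain ⟨⟨b, hb'⟩, hab⟩ := Finite.injective_iff_surjective.1 hφ ⟨a, ha⟩
    have hab' : b⁻¹ * (z * b * z⁻¹) = a := congrArg Subtype.val hab
    rw [← hab', hz', mul_inv_rev, mul_inv_rev, mul_inv_rev, inv_inv, hz']
    simp only [mul_assoc, hzz, mul_one]
  have hAcomm : ∀ a ∈ A, ∀ b ∈ A, a * b = b * a := by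
    intro a ha b hb'
    apply inv_injective
    calc (a * b)⁻¹ = z * (a * b) * z := (hinvA _ (mul_mem ha hb')).symm
      _ = z * a * z * (z * b * z) := by
        rw [show z * a * z * (z * b * z) = z * a * (z * z) * b * z by simp only [mul_assoc],
          hzz, mul_one]
        simp only [mul_assoc]
      _ = a⁻¹ * b⁻¹ := by rw [hinvA a ha, hinvA b hb']
      _ = (b * a)⁻¹ := (mul_inv_rev b a).symm
  have hcov : ∀ k : K, k ∈ A ∨ k * z ∈ A := fun k => by
    obtain ⟨a, ha, s, hs, rfl⟩ := hAS k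
    by_cases hs1 : s = 1
    · exact Or.inl (by rwa [hs1, mul_one])
    · exact Or.inr (by rw [huniq s hs z hz hs1 hz1, mul_assoc, hzz, mul_one]; exact ha)
  have hfpf : ∀ a ∈ A, ∀ v : V, v ≠ 0 → a • v = v → a = 1 := by
    intro a ha v hv hav
    rcases hirr (fixAdd a) (fun k w hw => by
      rw [mem_fixAdd] at hw ⊢
      rcases hcov k with hk | hk
      · rw [← mul_smul, hAcomm a ha k hk, mul_smul, hw]
      · have hka : (k * z) * z = k := by rw [mul_assoc, hzz, mul_one]
        have haz : a * z = z * a⁻¹ := by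
          rw [← hinvA a ha]; simp only [← mul_assoc, hzz, one_mul]
        rw [← hka, ← mul_smul, ← mul_assoc, hAcomm a ha _ hk, mul_assoc, haz, ← mul_assoc,
          mul_smul, inv_smul_eq_iff.2 hw.symm]) with h | h
    · exact absurd ((AddSubgroup.eq_bot_iff_forall _).1 h v hav) hv
    · refine eq_of_smul_eq_smul (α := V) fun w => ?_
      rw [one_smul]
      exact mem_fixAdd.1 (h ▸ AddSubgroup.mem_top w)
  obtain ⟨v, hv⟩ := moved_of_ne_one (V := V) hz1
  exact ⟨{
    A := A, r := z, x₀ := z • v + v, comm := hAcomm, fpf := hfpf, r_sq := hzz, r_ne := hz1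
    r_fix := by rw [smul_add, ← mul_smul, hzz, one_smul, add_comm]
    x₀_ne := fun h => hv ((add_eq_zero_iff' h2).1 h)
    inv := hinvA, cover := hcov
    stab := fun w hw => by
      by_contra! h
      exact hgh (comm_of_regular hb (fun g hg => by
        by_contra hg1
        exact h g (fun hgA => hg1 (hfpf g hgA w hw hg)) hg) _ _) }⟩

end CfsgLib.KnownA.BinaryAffine
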