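import Cfsg.Agent.Lib.KnownA.BinaryAffine.Basic

/-!
# Binary irreducible linear groups in odd characteristic
-/

set_option autoImplicit false
set_option linter.unusedSectionVars false

namespace CfsgLib.KnownA.BinaryAffine

variable {K V : Type*} [Group K] [Finite K] [AddCommGroup V] [Finite V] [DistribMulAction K V]
  [FaithfulSMul K V] {p : ℕ} [Fact p.Prime]

/-- The commutator subspace of an element, written with differences. -/
def subRange (g : K) : AddSubgroup V where
  carrier := Set.range fun v => g • v - v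
  zero_mem' := ⟨0, by simp⟩
  add_mem' := by
    rintro _ _ ⟨a, rfl⟩ ⟨b, rfl⟩
    exact ⟨a + b, by simp only [smul_add]; abel⟩
  neg_mem' := by
    rintro _ ⟨a, rfl⟩
    exact ⟨-a, by simp only [smul_neg]; abel⟩

theorem eq_zero_of_two (hp : ∀ v : V, p • v = 0) (hp2 : p ≠ 2) {v : V} (h : v + v = 0) :
    v = 0 := by
  obtain ⟨j, hj⟩ := (Fact.out : p.Prime).odd_of_ne_two hp2
  have := hp v
  rwa [hj, add_nsmul, mul_comm, mul_nsmul', one_nsmul, two_nsmul, h, nsmul_zero, zero_add] at this

/-- In odd characteristic a binary group has order prime to the characteristic. -/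
theorem not_dvd_card (hb : BinL K V) (hp : ∀ v : V, p • v = 0) (hp2 : p ≠ 2) :
    ¬ p ∣ Nat.card K := by
  intro hdvd
  obtain ⟨g, hg⟩ := exists_prime_orderOf_dvd_card' p hdvd
  obtain ⟨v₀, hv₀⟩ : ∃ v : V, g • v ≠ v := by
    by_contra! h
    have : g = 1 := eq_of_smul_eq_smul (α := V) fun v => by rw [one_smul, h v]
    rw [this, orderOf_one] at hg
    exact (Fact.out : p.Prime).one_lt.ne hg
  let M : AddSubgroup V := subRange g
  have hm₀ : g • v₀ - v₀ ∈ M := ⟨v₀, rfl⟩
  have hMg : ∀ x : Subgroup.zpowers g, ∀ m ∈ M, (x : K) • m ∈ M := by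
    rintro ⟨x, hx⟩ _ ⟨v, rfl⟩
    obtain ⟨k, rfl⟩ := Subgroup.mem_zpowers_iff.1 hx
    refine ⟨g ^ k • v, ?_⟩
    simp only [smul_sub, ← mul_smul]
    rw [(Commute.self_zpow g k).eq]
  letI : MulAction (Subgroup.zpowers g) M :=
    { smul := fun s m => ⟨(s : K) • (m : V), hMg s m m.2⟩
      one_smul := fun m => Subtype.ext (one_smul K (m : V))
      mul_smul := fun s t m => Subtype.ext (mul_smul (s : K) (t : K) (m : V)) }
  have hpM : p ∣ Nat.card M := by
    have : addOrderOf (⟨_, hm₀⟩ : M) = p := addOrderOf_eq_prime (Subtype.ext (by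
      simp only [AddSubgroup.coe_nsmul, ZeroMemClass.coe_zero, hp]))
      (fun h => hv₀ (sub_eq_zero.1 (congrArg Subtype.val h)))
    rw [← this]
    exact addOrderOf_dvd_natCard _
  have hP : IsPGroup p (Subgroup.zpowers g) :=
    IsPGroup.of_card (n := 1) (by rw [Nat.card_zpowers, hg, pow_one])
  obtain ⟨⟨δ, v, hv⟩, hfix, hne0⟩ :=
    hP.exists_fixed_point_of_prime_dvd_card_of_fixed_point M hpM (a := 0)
      (fun s => Subtype.ext (smul_zero (s : K)))
  have hgδ : g • δ = δ := congrArg Subtype.val (hfix ⟨g, Subgroup.mem_zpowers g⟩)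
  have hδ : δ ≠ 0 := fun h => hne0 (Subtype.ext h.symm)
  have hgv : g • v = v + δ := by
    have hv' : g • v - v = δ := hv
    rw [← hv']; abel
  obtain ⟨s, hs1, hs2⟩ := hb.swap (g * g) v
  have hggv : (g * g) • v = v + δ + δ := by rw [mul_smul, hgv, smul_add, hgv, hgδ]
  rw [hggv] at hs1 hs2
  have hsm : s • (v + δ) = v + δ := by
    refine sub_eq_zero.1 (eq_zero_of_two hp hp2 ?_)
    have h := congrArg₂ (· + ·) hs1 hs2
    simp only [← smul_add] at h
    have e1 : v + (v + δ + δ) = (v + δ) + (v + δ) := by abel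
    have e2 : v + δ + δ + v = (v + δ) + (v + δ) := by abel
    rw [e1, e2, smul_add] at h
    have e3 : s • (v + δ) - (v + δ) + (s • (v + δ) - (v + δ)) =
        s • (v + δ) + s • (v + δ) - ((v + δ) + (v + δ)) := by abel
    rw [e3, h, sub_self]
  obtain ⟨j, hj⟩ := (Fact.out : p.Prime).odd_of_ne_two hp2
  have hdiff : s • (j • v) - j • v = -δ := by
    rw [← smul_comm, hs1, ← nsmul_sub]
    rw [show v + δ + δ - v = δ + δ by abel, ← two_nsmul, ← mul_nsmul', mul_comm j 2]
    have := hp δ
    rw [hj, add_nsmul, one_nsmul] at this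
    exact eq_neg_of_add_eq_zero_left this
  have h := hb.translate (g := s) (k := g⁻¹) (u := v + δ) (v := j • v) hsm
    (by rw [hdiff, inv_smul_eq_iff, add_assoc, add_neg_cancel, add_zero, hgv])
  rw [h, sub_self] at hdiff
  exact hδ (neg_eq_zero.1 hdiff.symm)

variable [Module (ZMod p) V]

/-- An element as a linear map. -/
def lin (k : K) : V →ₗ[ZMod p] V := (DistribSMul.toAddMonoidHom V k).toZModLinearMap p

@[simp] theorem lin_apply (k : K) (v : V) : (lin k : V →ₗ[ZMod p] V) v = k • v := rfl

theorem smul_zmod (k : K) (c : ZMod p) (v : V) : k • (c • v) = c • k • v :=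
  (lin (p := p) k).map_smul c v

/-- Invariant symmetric forms. -/
def symForms (p : ℕ) [Fact p.Prime] (K V : Type*) [Group K] [AddCommGroup V]
    [DistribMulAction K V] [Module (ZMod p) V] :
    Submodule (ZMod p) (LinearMap.BilinForm (ZMod p) V) where
  carrier := {B | (∀ v w, B v w = B w v) ∧ ∀ (k : K) v w, B (k • v) (k • w) = B v w}
  zero_mem' := ⟨fun _ _ => rfl, fun _ _ _ => rfl⟩
  add_mem' {B C} hB hC := ⟨fun v w => by simp [hB.1 v w, hC.1 v w],
    fun k v w => by simp [hB.2 k v w, hC.2 k v w]⟩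
  smul_mem' c B hB := ⟨fun v w => by simp [hB.1 v w], fun k v w => by simp [hB.2 k v w]⟩

/-- Every nonzero vector is anisotropic for some invariant symmetric form. -/
theorem exists_form (hb : BinL K V) (hirr : IrrL K V) (hp : ∀ v : V, p • v = 0) (hp2 : p ≠ 2)
    {x : V} (hx : x ≠ 0) : ∃ B ∈ symForms p K V, B x x = 1 := by
  classical
  haveI : Fintype K := Fintype.ofFinite K
  haveI : Fintype (MulAction.stabilizer K x) := Fintype.ofFinite _
  obtain ⟨l, hl⟩ := (LinearMap.toSpanSingleton (ZMod p) V x).exists_leftInverse_of_injective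
    (LinearMap.ker_toSpanSingleton (ZMod p) hx)
  have hlx : l x = 1 := by
    have := LinearMap.congr_fun hl 1
    simpa using this
  set H := MulAction.stabilizer K x
  have hH : (Fintype.card H : ZMod p) ≠ 0 := by
    rw [Ne, ZMod.natCast_eq_zero_iff]
    intro h
    exact not_dvd_card hb hp hp2
      (h.trans (by rw [← Nat.card_eq_fintype_card]; exact Subgroup.card_subgroup_dvd_card H))
  let φ : V →ₗ[ZMod p] ZMod p :=
    (Fintype.card H : ZMod p)⁻¹ • ∑ h : H, l ∘ₗ lin (h : K)
  have hφ : ∀ v, φ v = (Fintype.card H : ZMod p)⁻¹ * ∑ h : H, l ((h : K) • v) := fun v => by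
    simp [φ]
  have hφinv : ∀ (h : H) (v : V), φ ((h : K) • v) = φ v := fun h v => by
    rw [hφ, hφ]
    congr 1
    rw [← Equiv.sum_comp (Equiv.mulRight h) (fun h' : H => l ((h' : K) • v))]
    exact Finset.sum_congr rfl fun h' _ => by
      rw [← mul_smul]; rfl
  have hφx : φ x = 1 := by
    rw [hφ, Finset.sum_congr rfl fun (h : H) _ => show l ((h : K) • x) = 1 by
      rw [show (h : K) • x = x from h.2, hlx]]
    simp [hH]
  have hf : ∀ g : K, φ (g • x) = φ (g⁻¹ • x) := by
    intro g
    obtain ⟨s, hs1, hs2⟩ := hb.swap g x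
    have hh : g⁻¹ * s ∈ H := MulAction.mem_stabilizer_iff.2 (by
      rw [mul_smul, hs1, inv_smul_smul])
    have h1 : (g⁻¹ * s) • g • x = g⁻¹ • x := by rw [mul_smul, hs2]
    rw [← hφinv ⟨_, hh⟩ (g • x), h1]
  let L : (K → ZMod p) →ₗ[ZMod p] V := Fintype.linearCombination (ZMod p) fun k : K => k • x
  have hL : ∀ a, L a = ∑ k, a k • (k • x) := fun a => Fintype.linearCombination_apply _ _ a
  have hsurj : LinearMap.range L = ⊤ := by
    have hmem : ∀ k : K, k • x ∈ LinearMap.range L :=
      fun k => ⟨Pi.single k 1, by simp [hL, Pi.single_apply, ite_smul]⟩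
    rcases hirr (LinearMap.range L).toAddSubgroup (fun g w hw => by
      obtain ⟨a, rfl⟩ := hw
      rw [hL, Finset.smul_sum]
      refine sum_mem fun k _ => ?_
      rw [smul_zmod, ← mul_smul]
      exact Submodule.smul_mem _ _ (hmem _)) with h | h
    · refine absurd ?_ hx
      have := (AddSubgroup.eq_bot_iff_forall _).1 h _ (hmem 1)
      rwa [one_smul] at this
    · exact SetLike.ext fun v => ⟨fun _ => trivial, fun _ => by
        have := AddSubgroup.mem_top v
        rw [← h] at this
        exact this⟩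
  obtain ⟨σ, hσ⟩ := L.exists_rightInverse_of_surjective hsurj
  have hσ' : ∀ v, L (σ v) = v := fun v => LinearMap.congr_fun hσ v
  let T : (K → ZMod p) → V → ZMod p := fun a w => ∑ g, a g * φ (g⁻¹ • w)
  have hTsym : ∀ a b, T a (L b) = T b (L a) := by
    intro a b
    have hexp : ∀ a b, T a (L b) = ∑ g, ∑ h, a g * (b h * φ ((g⁻¹ * h) • x)) := fun a b => by
      refine Finset.sum_congr rfl fun g _ => ?_
      rw [hL, Finset.smul_sum, map_sum, Finset.mul_sum]
      exact Finset.sum_congr rfl fun h _ => by rw [smul_zmod, map_smul, smul_eq_mul, mul_smul]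
    rw [hexp, hexp, Finset.sum_comm]
    refine Finset.sum_congr rfl fun g _ => Finset.sum_congr rfl fun h _ => ?_
    rw [hf, mul_inv_rev, inv_inv]
    ring
  let B : LinearMap.BilinForm (ZMod p) V := LinearMap.mk₂ (ZMod p) (fun v w => T (σ v) w)
    (fun v v' w => by simp [T, add_mul, Finset.sum_add_distrib])
    (fun c v w => by simp [T, Finset.mul_sum, mul_assoc])
    (fun v w w' => by simp [T, mul_add, Finset.sum_add_distrib])
    (fun c v w => by simp [T, smul_zmod, Finset.mul_sum, mul_left_comm])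
  have hB : ∀ a w, B (L a) w = T a w := by
    intro a w
    show T (σ (L a)) w = T a w
    calc T (σ (L a)) w = T (σ (L a)) (L (σ w)) := by rw [hσ']
      _ = T (σ w) (L (σ (L a))) := hTsym _ _
      _ = T (σ w) (L a) := by rw [hσ']
      _ = T a (L (σ w)) := hTsym _ _
      _ = T a w := by rw [hσ']
  refine ⟨B, ⟨fun v w => ?_, fun k v w => ?_⟩, ?_⟩
  · rw [← hσ' v, ← hσ' w, hB, hB, hTsym]
  · conv_lhs => rw [← hσ' v, show k • L (σ v) = L (fun g => σ v (k⁻¹ * g)) by
      rw [hL, hL, Finset.smul_sum]
      refine (Fintype.sum_equiv (Equiv.mulLeft k⁻¹) _ _ fun g => ?_).symm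
      simp only [Equiv.coe_mulLeft]
      rw [smul_zmod, ← mul_smul, mul_inv_cancel_left], hB]
    conv_rhs => rw [← hσ' v, hB]
    refine Fintype.sum_equiv (Equiv.mulLeft k⁻¹) _ _ fun g => ?_
    simp only [Equiv.coe_mulLeft]
    rw [mul_inv_rev, inv_inv, mul_smul]
  · have hx1 : L (Pi.single 1 1) = x := by simp [hL, Pi.single_apply, ite_smul]
    have h1 := hB (Pi.single 1 1) x
    rw [hx1] at h1
    rw [h1]
    simp [T, Pi.single_apply, ite_mul, hφx]

open MvPolynomial in
/-- More invariant forms than half the dimension prevent a common zero. -/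
theorem finrank_le_two_mul (hb : BinL K V) (hirr : IrrL K V) (hp : ∀ v : V, p • v = 0)
    (hp2 : p ≠ 2) :
    Module.finrank (ZMod p) V ≤ 2 * Module.finrank (ZMod p) (symForms p K V) := by
  classical
  by_contra! hlt
  haveI : Finite (LinearMap.BilinForm (ZMod p) V) :=
    Finite.of_injective (fun f v w => f v w) (fun f g h => LinearMap.ext fun v =>
      LinearMap.ext fun w => congrFun (congrFun h v) w)
  haveI : Finite (symForms p K V) := Finite.of_injective Subtype.val Subtype.val_injective
  letI : AddCommGroup (symForms p K V) := Module.addCommMonoidToAddCommGroup (ZMod p)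
  let b := Module.finBasis (ZMod p) V
  let c := Module.finBasis (ZMod p) (symForms p K V)
  set d := Module.finrank (ZMod p) V
  let f : Fin (Module.finrank (ZMod p) (symForms p K V)) → MvPolynomial (Fin d) (ZMod p) :=
    fun i => ∑ j, ∑ k, C ((c i : LinearMap.BilinForm (ZMod p) V) (b j) (b k)) * (X j * X k)
  have hdeg : ∀ i, (f i).totalDegree ≤ 2 := fun i => by
    refine totalDegree_finsetSum_le fun j _ => totalDegree_finsetSum_le fun k _ => ?_
    refine (totalDegree_mul _ _).trans ?_
    rw [totalDegree_C, zero_add]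
    exact (totalDegree_mul _ _).trans (by rw [totalDegree_X, totalDegree_X])
  have heval : ∀ i (a : Fin d → ZMod p), eval a (f i) =
      (c i : LinearMap.BilinForm (ZMod p) V) (∑ j, a j • b j) (∑ j, a j • b j) := by
    intro i a
    simp only [f, map_sum, map_mul, eval_C, eval_X, map_smul, LinearMap.coe_sum,
      Finset.sum_apply, LinearMap.smul_apply, smul_eq_mul, Finset.mul_sum]
    exact Finset.sum_comm.trans (Finset.sum_congr rfl fun k _ =>
      Finset.sum_congr rfl fun j _ => by ring)
  have hsum : (∑ i, (f i).totalDegree) < Fintype.card (Fin d) := by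
    rw [Fintype.card_fin]
    refine lt_of_le_of_lt (Finset.sum_le_sum fun i _ => hdeg i) ?_
    simp only [Finset.sum_const, Finset.card_univ, Fintype.card_fin, smul_eq_mul]
    omega
  have hdvd := char_dvd_card_solutions_of_fintype_sum_lt p hsum
  have hzero : ∀ i, eval (0 : Fin d → ZMod p) (f i) = 0 := fun i => by
    rw [heval]; simp
  rw [Fintype.card_eq_nat_card] at hdvd
  haveI : Nonempty {a : Fin d → ZMod p // ∀ i, eval a (f i) = 0} := ⟨⟨0, hzero⟩⟩
  haveI : Nontrivial {a : Fin d → ZMod p // ∀ i, eval a (f i) = 0} :=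
    Finite.one_lt_card_iff_nontrivial.1
      ((Fact.out : p.Prime).one_lt.trans_le (Nat.le_of_dvd Nat.card_pos hdvd))
  obtain ⟨⟨a, ha⟩, hane⟩ :=
    exists_ne (⟨0, hzero⟩ : {a : Fin d → ZMod p // ∀ i, eval a (f i) = 0})
  have hv : ∑ j, a j • b j ≠ 0 := fun h =>
    hane (Subtype.ext (funext fun j => by
      exact Fintype.linearIndependent_iff.1 b.linearIndependent a h j))
  obtain ⟨B, hB, hB1⟩ := exists_form hb hirr hp hp2 hv
  have hBc := c.sum_repr ⟨B, hB⟩
  have := congrArg Subtype.val hBc
  simp only [AddSubmonoidClass.coe_finsetSum, Submodule.coe_smul] at this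
  rw [← this] at hB1
  simp only [LinearMap.coe_sum, Finset.sum_apply, LinearMap.smul_apply, smul_eq_mul] at hB1
  rw [Finset.sum_eq_zero fun i _ => by rw [← heval, ha i, mul_zero]] at hB1
  exact zero_ne_one hB1

/-- The linear maps commuting with the group. -/
def cent (p : ℕ) [Fact p.Prime] (K V : Type*) [Group K] [AddCommGroup V]
    [DistribMulAction K V] [Module (ZMod p) V] :
    Subalgebra (ZMod p) (Module.End (ZMod p) V) :=
  Subalgebra.centralizer (ZMod p) (Set.range fun k : K => (lin k : V →ₗ[ZMod p] V))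

theorem cent_smul (t : cent p K V) (k : K) (v : V) :
    (t : Module.End (ZMod p) V) (k • v) = k • (t : Module.End (ZMod p) V) v :=
  (LinearMap.congr_fun ((Subalgebra.mem_centralizer_iff (ZMod p)).1 t.2 _ ⟨k, rfl⟩) v).symm

theorem cent_injective (hirr : IrrL K V) {t : cent p K V} (ht : t ≠ 0) :
    Function.Injective (t : Module.End (ZMod p) V) := by
  rw [← LinearMap.ker_eq_bot]
  rcases hirr (LinearMap.ker (t : Module.End (ZMod p) V)).toAddSubgroup (fun k w hw => by
    show (t : Module.End (ZMod p) V) (k • w) = 0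
    rw [cent_smul, show (t : Module.End (ZMod p) V) w = 0 from hw, smul_zero]) with h | h
  · exact (Submodule.eq_bot_iff _).2 fun v hv => (AddSubgroup.eq_bot_iff_forall _).1 h v hv
  · refine absurd (Subtype.ext (LinearMap.ext fun v => ?_)) ht
    have := AddSubgroup.mem_top v
    rw [← h] at this
    exact this

theorem cent_isField [Nontrivial V] (hirr : IrrL K V) : IsField (cent p K V) := by
  haveI : Finite (Module.End (ZMod p) V) :=
    Finite.of_injective (fun f => (f : V → V)) DFunLike.coe_injective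
  haveI : Nontrivial (cent p K V) := ⟨⟨1, 0, fun h => by
    obtain ⟨x, hx⟩ := exists_ne (0 : V)
    exact hx (congrArg (fun t : cent p K V => (t : Module.End (ZMod p) V) x) h)⟩⟩
  haveI : NoZeroDivisors (cent p K V) := ⟨fun {a b} h => by
    by_cases ha : a = 0
    · exact Or.inl ha
    · refine Or.inr (Subtype.ext (LinearMap.ext fun v => cent_injective hirr ha ?_))
      have := congrArg (fun t : cent p K V => (t : Module.End (ZMod p) V) v) h
      exact this.trans (map_zero (a : Module.End (ZMod p) V)).symm⟩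
  haveI : IsDomain (cent p K V) := NoZeroDivisors.to_isDomain _
  exact Finite.isDomain_to_isField _

/-- An element fixing some nonzero vector. -/
def Refl (V : Type*) [AddCommGroup V] [DistribMulAction K V] (k : K) : Prop :=
  k ≠ 1 ∧ ∃ v : V, v ≠ 0 ∧ k • v = v

theorem exists_dihData_odd [Nontrivial V] (hb : BinL K V) (hirr : IrrL K V)
    (hp : ∀ v : V, p • v = 0) (hp2 : p ≠ 2) (hnc : ∃ g h : K, g * h ≠ h * g) :
    Nonempty (DihData K V) := by
  classical
  haveI : Finite (Module.End (ZMod p) V) :=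
    Finite.of_injective (fun f => (f : V → V)) DFunLike.coe_injective
  haveI hfinE : Finite (cent p K V) := inferInstance
  haveI : Finite (LinearMap.BilinForm (ZMod p) V) :=
    Finite.of_injective (fun f v w => f v w) (fun f g h => LinearMap.ext fun v =>
      LinearMap.ext fun w => congrFun (congrFun h v) w)
  haveI : Finite (symForms p K V) := Finite.of_injective Subtype.val Subtype.val_injective
  letI : AddCommGroup (symForms p K V) := Module.addCommMonoidToAddCommGroup (ZMod p)
  letI : Field (cent p K V) := (cent_isField hirr).toField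
  have hev : ∀ (t : cent p K V) {v : V}, v ≠ 0 → (t : Module.End (ZMod p) V) v = 0 → t = 0 :=
    fun t v hv h => by
      by_contra ht
      exact hv (cent_injective hirr ht (h.trans (map_zero (t : Module.End (ZMod p) V)).symm))
  -- the evaluation at a vector is not onto
  have hnsurj : ∀ {x : V}, x ≠ 0 → ∃ y : V, ∀ t : cent p K V,
      (t : Module.End (ZMod p) V) x ≠ y := by
    intro x hx
    by_contra! hs
    obtain ⟨g, h, hgh⟩ := hnc
    refine hgh (eq_of_smul_eq_smul (α := V) fun v => ?_)
    obtain ⟨t, rfl⟩ := hs v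
    obtain ⟨a, ha⟩ := hs (g • x)
    obtain ⟨b, hb'⟩ := hs (h • x)
    rw [← cent_smul, ← cent_smul, mul_smul, mul_smul, ← hb', ← ha, ← cent_smul, ← cent_smul,
      ← ha, ← hb']
    exact congrArg (fun u : cent p K V =>
      (t : Module.End (ZMod p) V) ((u : Module.End (ZMod p) V) x)) (mul_comm b a)
  have hinj2 : ∀ {x y : V}, x ≠ 0 → (∀ t : cent p K V, (t : Module.End (ZMod p) V) x ≠ y) →
      Function.Injective fun q : cent p K V × cent p K V =>
        (q.1 : Module.End (ZMod p) V) x + (q.2 : Module.End (ZMod p) V) y := by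
    rintro x y hx hy ⟨a, b⟩ ⟨a', b'⟩ h
    have h' : ((a - a' : cent p K V) : Module.End (ZMod p) V) x +
        ((b - b' : cent p K V) : Module.End (ZMod p) V) y = 0 := by
      push_cast
      simp only [LinearMap.sub_apply]
      simp only at h
      rw [← sub_eq_zero] at h
      rw [← h]; abel
    by_cases hbb : b - b' = 0
    · rw [hbb, ZeroMemClass.coe_zero, LinearMap.zero_apply, add_zero] at h'
      exact Prod.ext (sub_eq_zero.1 (hev _ hx h')) (sub_eq_zero.1 hbb)
    · refine absurd ?_ (hy (-((b - b')⁻¹ * (a - a'))))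
      have h2 : (b - b')⁻¹ * (b - b') = 1 := inv_mul_cancel₀ hbb
      have h3 := congrArg (fun t : cent p K V => (t : Module.End (ZMod p) V) y) h2
      rw [NegMemClass.coe_neg, LinearMap.neg_apply, neg_eq_iff_add_eq_zero]
      have h4 := congrArg (((b - b')⁻¹ : cent p K V) : Module.End (ZMod p) V) h'
      rw [map_add, map_zero] at h4
      have h5 : (((b - b')⁻¹ : cent p K V) : Module.End (ZMod p) V)
          (((b - b' : cent p K V) : Module.End (ZMod p) V) y) = y := h3
      rw [h5] at h4
      exact h4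
  obtain ⟨x₀, hx₀⟩ := exists_ne (0 : V)
  obtain ⟨B₀, hB₀, hB₀1⟩ := exists_form hb hirr hp hp2 hx₀
  have hB₀inj : Function.Injective (B₀ : V →ₗ[ZMod p] V →ₗ[ZMod p] ZMod p) := by
    rw [← LinearMap.ker_eq_bot]
    rcases hirr (LinearMap.ker (B₀ : V →ₗ[ZMod p] V →ₗ[ZMod p] ZMod p)).toAddSubgroup
      (fun k w hw => by
        refine LinearMap.ext fun u => ?_
        rw [← smul_inv_smul k u, hB₀.2, show B₀ w = 0 from hw]
        rfl) with h | h
    · exact (Submodule.eq_bot_iff _).2 fun v hv => (AddSubgroup.eq_bot_iff_forall _).1 h v hv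
    · exfalso
      have := AddSubgroup.mem_top x₀
      rw [← h] at this
      rw [show B₀ x₀ = 0 from this] at hB₀1
      exact zero_ne_one hB₀1
  let e₀ : V ≃ₗ[ZMod p] Module.Dual (ZMod p) V :=
    LinearMap.linearEquivOfInjective B₀ hB₀inj Subspace.dual_finrank_eq.symm
  have he₀ : ∀ (φ : Module.Dual (ZMod p) V) (w : V), B₀ (e₀.symm φ) w = φ w := fun φ w =>
    LinearMap.congr_fun (show B₀ (e₀.symm φ) = φ from e₀.apply_symm_apply φ) w
  let toC : symForms p K V → cent p K V := fun B =>
    ⟨(e₀.symm.toLinearMap ∘ₗ (B : LinearMap.BilinForm (ZMod p) V) : V →ₗ[ZMod p] V),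
      (Subalgebra.mem_centralizer_iff (ZMod p)).2 (by
        rintro _ ⟨k, rfl⟩
        refine LinearMap.ext fun v => hB₀inj (LinearMap.ext fun w => ?_)
        show B₀ (k • e₀.symm ((B : LinearMap.BilinForm (ZMod p) V) v)) w =
          B₀ (e₀.symm ((B : LinearMap.BilinForm (ZMod p) V) (k • v))) w
        rw [← smul_inv_smul k w, hB₀.2, he₀, he₀, B.2.2])⟩
  have htoC : ∀ (B : symForms p K V) v w,
      B₀ ((toC B : Module.End (ZMod p) V) v) w = (B : LinearMap.BilinForm (ZMod p) V) v w :=
    fun B v w => he₀ _ w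
  have htoCinj : Function.Injective toC := fun B C h => Subtype.ext (LinearMap.ext fun v =>
    LinearMap.ext fun w => by rw [← htoC, ← htoC, h])
  obtain ⟨y₀, hy₀⟩ := hnsurj hx₀
  have hcard1 : Nat.card (cent p K V) ^ 2 ≤ Nat.card V := by
    rw [sq, ← Nat.card_prod]
    exact Nat.card_le_card_of_injective _ (hinj2 hx₀ hy₀)
  have hcard2 : Nat.card V ≤ Nat.card (symForms p K V) ^ 2 := by
    rw [Module.natCard_eq_pow_finrank (K := ZMod p) (V := V),
      Module.natCard_eq_pow_finrank (K := ZMod p) (V := symForms p K V), ← pow_mul, mul_comm _ 2]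
    exact Nat.pow_le_pow_right (Nat.card_pos) (finrank_le_two_mul hb hirr hp hp2)
  have hcard3 : Nat.card (symForms p K V) = Nat.card (cent p K V) :=
    le_antisymm (Nat.card_le_card_of_injective _ htoCinj)
      (Nat.pow_le_pow_iff_left two_ne_zero |>.1 (hcard1.trans hcard2))
  have hsurjC : Function.Surjective toC :=
    (Finite.injective_iff_surjective_of_equiv (Finite.card_eq.1 hcard3).some).1 htoCinj
  have hsa : ∀ (t : cent p K V) (u w : V),
      B₀ ((t : Module.End (ZMod p) V) u) w = B₀ u ((t : Module.End (ZMod p) V) w) := by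
    intro t u w
    obtain ⟨B, rfl⟩ := hsurjC t
    rw [htoC, B.2.1, ← htoC, hB₀.1]
  have hanis : ∀ v : V, v ≠ 0 → ∃ t : cent p K V, B₀ ((t : Module.End (ZMod p) V) v) v ≠ 0 := by
    intro v hv
    obtain ⟨B, hB, hB1⟩ := exists_form hb hirr hp hp2 hv
    exact ⟨toC ⟨B, hB⟩, by rw [htoC]; simp only; rw [hB1]; exact one_ne_zero⟩
  have hcardV : Nat.card (cent p K V) ^ 2 = Nat.card V :=
    le_antisymm hcard1 (hcard3 ▸ hcard2)
  -- adapted coordinates
  have hframe : ∀ x : V, x ≠ 0 → ∃ w : V, w ≠ 0 ∧
      (∀ v, ∃ a b : cent p K V,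
        (a : Module.End (ZMod p) V) x + (b : Module.End (ZMod p) V) w = v) ∧
      (∀ h : K, h • x = x → h • w = w ∨ h • w = -w) := by
    intro x hx
    let Φ : cent p K V →ₗ[ZMod p] Module.Dual (ZMod p) (cent p K V) :=
      LinearMap.mk₂ (ZMod p)
        (fun s t => B₀ ((t : Module.End (ZMod p) V) x) ((s : Module.End (ZMod p) V) x))
        (fun s s' t => by simp) (fun c s t => by simp) (fun s t t' => by simp)
        (fun c s t => by simp)
    have hΦ : Function.Injective Φ := by
      rw [injective_iff_map_eq_zero]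
      intro s hs
      by_contra hs0
      obtain ⟨t, ht⟩ := hanis x hx
      apply ht
      have h1 := LinearMap.congr_fun hs (t * s⁻¹)
      have h2 : (t * s⁻¹ * s : cent p K V) = t := by rw [mul_assoc, inv_mul_cancel₀ hs0, mul_one]
      change B₀ (((t * s⁻¹ : cent p K V) : Module.End (ZMod p) V) x)
        ((s : Module.End (ZMod p) V) x) = 0 at h1
      rw [← hsa] at h1
      rw [← h2, mul_comm (t * s⁻¹)]
      exact h1
    have hΦs : Function.Surjective Φ :=
      (LinearMap.injective_iff_surjective_of_finrank_eq_finrank Subspace.dual_finrank_eq.symm).1 hΦ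
    obtain ⟨y, hy⟩ := hnsurj hx
    obtain ⟨s, hs⟩ := hΦs
      { toFun := fun t => B₀ ((t : Module.End (ZMod p) V) x) y
        map_add' := fun t t' => by simp
        map_smul' := fun c t => by simp }
    set w := y - (s : Module.End (ZMod p) V) x with hw
    have hworth : ∀ t : cent p K V, B₀ ((t : Module.End (ZMod p) V) x) w = 0 := fun t => by
      have h1 := LinearMap.congr_fun hs t
      change B₀ ((t : Module.End (ZMod p) V) x) ((s : Module.End (ZMod p) V) x) =
        B₀ ((t : Module.End (ZMod p) V) x) y at h1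
      rw [hw, map_sub, h1, sub_self]
    have hwne : ∀ t : cent p K V, (t : Module.End (ZMod p) V) x ≠ w := fun t ht => by
      refine hy (t + s) ?_
      rw [AddMemClass.coe_add, LinearMap.add_apply, ht, hw, sub_add_cancel]
    have hw0 : w ≠ 0 := fun h => hwne 0 (by rw [h]; rfl)
    have hbij := hinj2 hx hwne
    haveI : Fintype V := Fintype.ofFinite V
    haveI : Fintype (cent p K V) := Fintype.ofFinite _
    have hsur : ∀ v, ∃ a b : cent p K V,
        (a : Module.End (ZMod p) V) x + (b : Module.End (ZMod p) V) w = v := by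
      intro v
      obtain ⟨⟨a, b⟩, hab⟩ := ((Fintype.bijective_iff_injective_and_card _).2 ⟨hbij, by
        rw [← Nat.card_eq_fintype_card, ← Nat.card_eq_fintype_card, Nat.card_prod, ← sq,
          hcardV]⟩).2 v
      exact ⟨a, b, hab⟩
    refine ⟨w, hw0, hsur, fun h hh => ?_⟩
    obtain ⟨a, b, hab⟩ := hsur (h • w)
    have ha : a = 0 := by
      by_contra ha0
      obtain ⟨t, ht⟩ := hanis x hx
      apply ht
      have h2 : (t * a⁻¹ * a : cent p K V) = t := by rw [mul_assoc, inv_mul_cancel₀ ha0, mul_one]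
      set u : cent p K V := t * a⁻¹ with hu
      have h1 : B₀ ((u : Module.End (ZMod p) V) x) (h • w) = 0 := by
        have := hB₀.2 h ((u : Module.End (ZMod p) V) x) w
        rw [← cent_smul, hh, hworth] at this
        exact this
      rw [← hab, map_add, ← hsa b, show B₀ ((b : Module.End (ZMod p) V)
        ((u : Module.End (ZMod p) V) x)) w = 0 from hworth (b * u), add_zero, ← hsa a] at h1
      rw [← h2, mul_comm u]
      exact h1
    rw [ha, ZeroMemClass.coe_zero, LinearMap.zero_apply, zero_add] at hab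
    have hbb : b * b = 1 := by
      by_contra hne
      obtain ⟨t, ht⟩ := hanis w hw0
      apply ht
      have hne' : b * b - 1 ≠ 0 := sub_ne_zero.2 hne
      set u : cent p K V := t * (b * b - 1)⁻¹ with hu
      have h2 : u * (b * b - 1) = t := by rw [hu, mul_assoc, inv_mul_cancel₀ hne', mul_one]
      have h1 := hB₀.2 h ((u : Module.End (ZMod p) V) w) w
      rw [← cent_smul, ← hab, ← hsa] at h1
      have h3 : ((b * b - 1) * u : cent p K V) = t := by rw [mul_comm, h2]
      rw [← h3]
      change B₀ ((((b * b - 1) * u : cent p K V) : Module.End (ZMod p) V) w) w = 0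
      rw [show ((b * b - 1) * u : cent p K V) = b * (u * b) - u by ring]
      rw [AddSubgroupClass.coe_sub, LinearMap.sub_apply]
      simp only [map_sub, LinearMap.sub_apply, sub_eq_zero]
      exact h1
    rcases mul_self_eq_one_iff.1 hbb with rfl | rfl
    · exact Or.inl hab.symm
    · exact Or.inr (by rw [← hab]; rfl)
  have hfixall : ∀ {h : K} {x w : V},
      (∀ v, ∃ a b : cent p K V,
        (a : Module.End (ZMod p) V) x + (b : Module.End (ZMod p) V) w = v) →
      h • x = x → h • w = w → h = 1 := by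
    intro h x w hs hx hw
    refine eq_of_smul_eq_smul (α := V) fun v => ?_
    obtain ⟨a, b, rfl⟩ := hs v
    rw [one_smul, smul_add, ← cent_smul, ← cent_smul, hx, hw]
  have huniq : ∀ {h k : K} {x : V}, x ≠ 0 → h • x = x → k • x = x → h ≠ 1 → k ≠ 1 → h = k := by
    intro h k x hx hh hk h1 k1
    obtain ⟨w, -, hs, hstab⟩ := hframe x hx
    have hhw := (hstab h hh).resolve_left fun e => h1 (hfixall hs hh e)
    have hkw := (hstab k hk).resolve_left fun e => k1 (hfixall hs hk e)
    refine inv_mul_eq_one.1 (hfixall hs (h := h⁻¹ * k) ?_ ?_)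
    · rw [mul_smul, hk, inv_smul_eq_iff, hh]
    · rw [mul_smul, hkw, inv_smul_eq_iff, hhw]
  have hsq : ∀ {r : K}, Refl V r → r * r = 1 := by
    rintro r ⟨hr1, x, hx, hrx⟩
    by_contra hne
    have := huniq hx (show (r * r) • x = x by rw [mul_smul, hrx, hrx]) hrx hne hr1
    exact hr1 (mul_right_cancel (this.trans (one_mul r).symm))
  have hexR : ∀ {x : V}, x ≠ 0 → ∃ r : K, Refl V r ∧ r • x = x := by
    intro x hx
    obtain ⟨g, h, hgh⟩ := hnc
    by_contra! hno
    refine hgh (comm_of_regular (x := x) hb (fun k hk => ?_) g h)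
    by_contra hk1
    exact hno k ⟨hk1, x, hx, hk⟩ hk
  have hfpfR : ∀ {g : K}, g ≠ 1 → ¬ Refl V g → ∀ v : V, v ≠ 0 → g • v ≠ v :=
    fun hg1 hg v hv h => hg ⟨hg1, v, hv, h⟩
  -- reflections invert the elements without fixed points
  have hinv : ∀ {g r : K}, g ≠ 1 → ¬ Refl V g → Refl V r → r * g * r = g⁻¹ := by
    intro g r hg1 hg hr
    obtain ⟨hr1, x, hx, hrx⟩ := hr
    have hrr := hsq ⟨hr1, x, hx, hrx⟩
    by_cases hneg : g • x = -x
    · obtain ⟨w, hw0, hs, hstab⟩ := hframe x hx
      have hrw := (hstab r hrx).resolve_left fun e => hr1 (hfixall hs hrx e)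
      obtain ⟨s, hs1, hs2⟩ := hb.swap g x
      -- `g` is the negation
      have hgg : (g * g) • x = x := by rw [mul_smul, hneg, smul_neg, hneg, neg_neg]
      have hcg : g * r = r * g := by
        have h1 : (g⁻¹ * r * g) • x = x := by
          rw [mul_smul, mul_smul, hneg, smul_neg, hrx, smul_neg, inv_smul_eq_iff.2 (show x = g • -x
            by rw [smul_neg, hneg, neg_neg]), neg_neg]
        have h2 : g⁻¹ * r * g ≠ 1 := fun e => hr1 (by
          calc r = g * (g⁻¹ * r * g) * g⁻¹ := by group
            _ = 1 := by rw [e]; group)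
        have := huniq hx h1 hrx h2 hr1
        calc g * r = g * (g⁻¹ * r * g) := by rw [this]
          _ = r * g := by group
      have hgg1 : g * g = 1 := by
        by_contra hne
        have hggr := huniq hx hgg hrx hne hr1
        obtain ⟨a, b, hab⟩ := hs (g • w)
        have hrgw : r • g • w = -(g • w) := by
          rw [← mul_smul, ← hcg, mul_smul, hrw, smul_neg]
        rw [← hab, smul_add, ← cent_smul, ← cent_smul, hrx, hrw, map_neg] at hrgw
        have ha : a = 0 := by
          refine hev a hx (eq_zero_of_two hp hp2 ?_)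
          have : (a : Module.End (ZMod p) V) x + -((b : Module.End (ZMod p) V) w) -
              (-((a : Module.End (ZMod p) V) x + (b : Module.End (ZMod p) V) w)) = 0 := by
            rw [hrgw, sub_self]
          rw [← this]; abel
        rw [ha, ZeroMemClass.coe_zero, LinearMap.zero_apply, zero_add] at hab
        have hgw := congrArg (g • ·) hab.symm
        rw [← mul_smul, hggr, hrw, ← cent_smul, ← hab] at hgw
        have hb2 : b * b + 1 = 0 := hev _ hw0 (by
          rw [AddMemClass.coe_add, LinearMap.add_apply, MulMemClass.coe_mul, Module.End.mul_apply,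
            ← hgw]
          exact neg_add_cancel w)
        obtain ⟨s', hs1', hs2'⟩ := hb.swap g w
        have hgc : ∀ v : V, v ≠ 0 → g • v ≠ v := hfpfR hg1 hg
        have hsw : (g⁻¹ * s') • w = w := by rw [mul_smul, hs1', inv_smul_smul]
        rw [← hab, ← cent_smul, hs1', ← hab] at hs2'
        have hb3 : b * b - 1 = 0 := hev _ hw0 (by
          rw [AddSubgroupClass.coe_sub, LinearMap.sub_apply, sub_eq_zero]
          exact hs2')
        have hone : (1 : cent p K V) + 1 = 0 := by linear_combination hb2 - hb3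
        have h2 := congrArg (fun t : cent p K V => (t : Module.End (ZMod p) V) x) hone
        exact hx (eq_zero_of_two hp hp2 h2)
      rw [inv_eq_of_mul_eq_one_right hgg1, ← hcg, mul_assoc, hrr, mul_one]
    · obtain ⟨s, hs1, hs2⟩ := hb.swap g x
      have hs' : (g⁻¹ * s) • x = x := by rw [mul_smul, hs1, inv_smul_smul]
      have hsum : x + g • x ≠ 0 := fun h => hneg (eq_neg_of_add_eq_zero_right h)
      have hsfix : s • (x + g • x) = x + g • x := by rw [smul_add, hs1, hs2, add_comm]
      have hsne : s ≠ 1 := fun h => by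
        rw [h, one_smul] at hs1
        exact hfpfR hg1 hg x hx hs1.symm
      by_cases he : g⁻¹ * s = 1
      · exact absurd ⟨hsne, _, hsum, hsfix⟩ (inv_mul_eq_one.1 he ▸ hg)
      · have hse := huniq hx hs' hrx he hr1
        have hs : s = g * r := by rw [← hse, mul_inv_cancel_left]
        have hss := hsq (r := s) ⟨hsne, _, hsum, hsfix⟩
        rw [hs, mul_assoc, ← inv_eq_iff_mul_eq_one] at hss
        rw [hss, mul_assoc]
  have hprod : ∀ {s r : K}, Refl V s → Refl V r → s * r = 1 ∨ ¬ Refl V (s * r) := by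
    intro s r hs hr
    refine or_iff_not_imp_right.2 fun hu => ?_
    rw [not_not] at hu
    obtain ⟨hu1, x, hx, hux⟩ := hu
    set u := s * r with hudef
    have hsu : s = u * r := by rw [hudef, mul_assoc, hsq hr, mul_one]
    have huu := hsq (r := u) ⟨hu1, x, hx, hux⟩
    have hcomm : u * r = r * u := by
      have h := hsq hs
      rw [hsu, ← inv_eq_iff_mul_eq_one, mul_inv_rev, inv_eq_of_mul_eq_one_right (hsq hr),
        inv_eq_of_mul_eq_one_right huu] at h
      exact h.symm
    obtain ⟨w, hw0, hfr, hstab⟩ := hframe x hx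
    have huw := (hstab u hux).resolve_left fun e => hu1 (hfixall hfr hux e)
    obtain ⟨hr1, y, hy, hry⟩ := hr
    obtain ⟨hs1, z, hz, hsz⟩ := hs
    have hrsq := hsq (r := r) ⟨hr1, y, hy, hry⟩
    have eig : ∀ (v : V) (a : cent p K V), v ≠ 0 → r • v = (a : Module.End (ZMod p) V) v →
        a = 1 ∨ a = -1 := by
      intro v a hv h
      refine mul_self_eq_one_iff.1 (sub_eq_zero.1 (hev _ hv ?_))
      rw [AddSubgroupClass.coe_sub, LinearMap.sub_apply, sub_eq_zero]
      show (a : Module.End (ZMod p) V) ((a : Module.End (ZMod p) V) v) = v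
      rw [← h, cent_smul, ← h, ← mul_smul, hrsq, one_smul]
    obtain ⟨a, b, hab⟩ := hfr (r • x)
    have hb0 : b = 0 := by
      have h : u • r • x = r • x := by rw [← mul_smul, hcomm, mul_smul, hux]
      rw [← hab, smul_add, ← cent_smul, ← cent_smul, hux, huw, map_neg, add_right_inj] at h
      exact hev b hw0 (eq_zero_of_two hp hp2 (by nth_rw 1 [← h]; exact neg_add_cancel _))
    rw [hb0, ZeroMemClass.coe_zero, LinearMap.zero_apply, add_zero] at hab
    obtain ⟨a', b', hab'⟩ := hfr (r • w)
    have ha0 : a' = 0 := by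
      have h : u • r • w = -(r • w) := by rw [← mul_smul, hcomm, mul_smul, huw, smul_neg]
      rw [← hab', smul_add, ← cent_smul, ← cent_smul, hux, huw, map_neg, neg_add,
        add_left_inj] at h
      exact hev a' hx (eq_zero_of_two hp hp2 (by nth_rw 1 [h]; exact neg_add_cancel _))
    rw [ha0, ZeroMemClass.coe_zero, LinearMap.zero_apply, zero_add] at hab'
    have no_neg : ∀ {k : K}, (k • x = -x) → (k • w = -w) → ∀ v : V, v ≠ 0 → k • v ≠ v := by
      intro k hkx hkw v hv hkv
      obtain ⟨c, d, rfl⟩ := hfr v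
      rw [smul_add, ← cent_smul, ← cent_smul, hkx, hkw, map_neg, map_neg, ← neg_add,
        neg_eq_iff_add_eq_zero] at hkv
      exact hv (eq_zero_of_two hp hp2 hkv)
    rcases eig x a hx hab.symm with rfl | rfl
    · have hrx : r • x = x := hab.symm
      exact absurd (hsu.trans (by rw [huniq hx hux hrx hu1 hr1, hrsq])) hs1
    · have hrx : r • x = -x := hab.symm
      rcases eig w b' hw0 hab'.symm with rfl | rfl
      · have hrw : r • w = w := hab'.symm
        refine absurd hsz (no_neg ?_ ?_ z hz)
        · rw [hsu, mul_smul, hrx, smul_neg, hux]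
        · rw [hsu, mul_smul, hrw, huw]
      · exact absurd hry (no_neg hrx hab'.symm y hy)
  let P : Set K := {k | ∃ s r : K, Refl V s ∧ Refl V r ∧ k = s * r}
  have hFA : ∀ {g : K}, ¬ Refl V g → g ∈ Subgroup.centralizer P := by
    intro g hg
    rw [Subgroup.mem_centralizer_iff]
    rintro _ ⟨s, r, hs, hr, rfl⟩
    by_cases hg1 : g = 1
    · simp [hg1]
    have e1 := hinv hg1 hg hr
    have e2 := hinv hg1 hg hs
    calc s * r * g = s * (r * g * r) * r := by simp only [mul_assoc, hsq hr, mul_one]
      _ = s * g⁻¹ * r := by rw [e1]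
      _ = s * (s * g * s) * r := by rw [e2]
      _ = g * (s * r) := by simp only [← mul_assoc, hsq hs, one_mul]
  obtain ⟨r, hr, hrx⟩ := hexR hx₀
  have hexFpf : ∀ g : K, g ≠ 1 → ¬ Refl V g → g ∈ P := by
    intro g hg1 hg
    obtain hgr := hinv hg1 hg hr
    refine ⟨g * r, r, ⟨fun h => hg ?_, ?_⟩, hr, by rw [mul_assoc, hsq hr, mul_one]⟩
    · rw [show g = r by rw [← mul_one g, ← hsq hr, ← mul_assoc, h, one_mul]]
      exact hr
    · have hsq' : (g * r) * (g * r) = 1 := by
        rw [← mul_assoc, mul_assoc g r g, mul_assoc g (r * g) r, hgr, mul_inv_cancel]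
      by_cases h0 : x₀ + g • x₀ = 0
      · obtain ⟨w, hw0, hfr, hstab⟩ := hframe x₀ hx₀
        by_cases h1 : w + (g * r) • w = 0
        · exfalso
          have hrw := (hstab r hrx).resolve_left fun e => hr.1 (hfixall hfr hrx e)
          refine hfpfR hg1 hg w hw0 ?_
          rw [mul_smul, hrw, smul_neg, ← sub_eq_add_neg, sub_eq_zero] at h1
          exact h1.symm
        · exact ⟨_, h1, by rw [smul_add, ← mul_smul, hsq', one_smul, add_comm]⟩
      · exact ⟨_, h0, by
          rw [smul_add, mul_smul, hrx, ← show (g * r) • x₀ = g • x₀ by rw [mul_smul, hrx],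
            ← mul_smul, hsq', one_smul, mul_smul, hrx, add_comm]⟩
  have hreflA : ∀ {k : K}, Refl V k → k ∉ Subgroup.centralizer P := by
    intro k hk hkA
    obtain ⟨hk1, x, hx, hkx⟩ := hk
    have hkk := hsq (r := k) ⟨hk1, x, hx, hkx⟩
    have hcR : ∀ {s : K}, Refl V s → k * s = s * k := by
      intro s hs
      have h := Subgroup.mem_centralizer_iff.1 hkA (s * k) ⟨s, k, hs, ⟨hk1, x, hx, hkx⟩, rfl⟩
      rw [mul_assoc, hkk, mul_one] at h
      nth_rw 2 [h]
      simp only [mul_assoc, hkk, mul_one]
    refine hk1 (hirr.eq_one_of_central (fun g => ?_) hx hkx)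
    by_cases hg : Refl V g
    · exact hcR hg
    by_cases hg1 : g = 1
    · simp [hg1]
    obtain ⟨s, t, hs, ht, rfl⟩ := hexFpf g hg1 hg
    rw [← mul_assoc, hcR hs, mul_assoc, hcR ht, ← mul_assoc]
  have hnR : ∀ {k : K}, k ∈ Subgroup.centralizer P → ¬ Refl V k := fun hk h => hreflA h hk
  exact ⟨{
    A := Subgroup.centralizer P, r := r, x₀ := x₀
    comm := fun a ha b hb' => by
      by_cases h1 : b = 1
      · simp [h1]
      exact (Subgroup.mem_centralizer_iff.1 ha b (hexFpf b h1 (hnR hb'))).symm
    fpf := fun a ha v hv hav => by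
      by_contra h1
      exact hnR ha ⟨h1, v, hv, hav⟩
    r_sq := hsq hr, r_ne := hr.1, r_fix := hrx, x₀_ne := hx₀
    inv := fun a ha => by
      by_cases h1 : a = 1
      · simp [h1, hsq hr]
      exact hinv h1 (hnR ha) hr
    cover := fun k => by
      by_cases hk : Refl V k
      · rcases hprod hk hr with h | h
        · exact Or.inr (h ▸ one_mem _)
        · exact Or.inr (hFA h)
      · exact Or.inl (hFA hk)
    stab := fun v hv => by
      obtain ⟨s, hs, hsv⟩ := hexR hv
      exact ⟨s, hreflA hs, hsv⟩ }⟩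

end CfsgLib.KnownA.BinaryAffine
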