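import Cfsg.Agent.Lib.KnownA.BinaryAffine.EvenData
import Cfsg.Agent.Lib.KnownA.BinaryAffine.OddData
import Cfsg.Agent.Lib.KnownA.BinaryAffine.Endgame

/-!
# Binary primitive affine permutation groups
-/

set_option autoImplicit false
set_option linter.unusedSectionVars false

namespace CfsgLib.KnownA.BinaryAffine

/-- The subfield fixed by an involutory automorphism: degree two, norm `a σ(a)`. -/
theorem exists_fixed_field (E : Type) [Field E] [Fintype E] (σ : E ≃+* E) (h1 : σ ≠ 1)
    (h2 : σ * σ = 1) :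
    ∃ (F : Type) (_ : Field F) (_ : Fintype F) (_ : Algebra F E), Module.finrank F E = 2 ∧
      (∀ φ : E ≃ₐ[F] E, (∀ x, φ x = x) ∨ ∀ x, φ x = σ x) ∧
      (∃ φ : E ≃ₐ[F] E, ∀ x, φ x = σ x) ∧ ∀ a : E, Algebra.norm F a = 1 ↔ a * σ a = 1 := by
  classical
  haveI : Finite (RingAut E) := Finite.of_injective (fun f => (f : E → E)) DFunLike.coe_injective
  let H : Subgroup (RingAut E) := Subgroup.zpowers σ
  haveI : Fintype H := Fintype.ofFinite H
  have hord : orderOf σ = 2 := orderOf_eq_prime (by rw [pow_two, h2]) h1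
  have hcard : Fintype.card H = 2 := by
    rw [← Nat.card_eq_fintype_card, Nat.card_zpowers, hord]
  let s : H := ⟨σ, Subgroup.mem_zpowers σ⟩
  have hs1 : (1 : H) ≠ s := fun h => h1 (congrArg Subtype.val h).symm
  have huniv : (Finset.univ : Finset H) = {1, s} :=
    (Finset.eq_of_subset_of_card_le (Finset.subset_univ _)
      (by rw [Finset.card_univ, hcard, Finset.card_pair hs1])).symm
  let F := FixedPoints.subfield H E
  haveI : Fintype F := Fintype.ofFinite F
  let e := FixedPoints.toAlgAutMulEquiv H E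
  refine ⟨F, inferInstance, inferInstance, inferInstance, ?_, fun φ => ?_, ⟨e s, fun x => rfl⟩,
    fun a => ?_⟩
  · rw [← hcard]; exact FixedPoints.finrank_eq_card H E
  · obtain ⟨h, rfl⟩ := e.surjective φ
    have : h ∈ ({1, s} : Finset H) := huniv ▸ Finset.mem_univ h
    simp only [Finset.mem_insert, Finset.mem_singleton] at this
    rcases this with rfl | rfl
    · exact Or.inl fun x => rfl
    · exact Or.inr fun x => rfl
  · haveI : IsGalois F E := inferInstance
    have hn := Algebra.norm_eq_prod_automorphisms F a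
    rw [← Fintype.prod_equiv e.toEquiv (fun h : H => e h a) _ (fun h => rfl), huniv,
      Finset.prod_pair hs1] at hn
    have hn' : algebraMap F E (Algebra.norm F a) = a * σ a := hn
    rw [← hn']
    exact ⟨fun h => by rw [h, map_one],
      fun h => (algebraMap F E).injective (h.trans (map_one _).symm)⟩

/-- The permutations of a point set in terms of the model. -/
theorem affine_dichotomy {G Ω : Type*} [Group G] [Finite G] [MulAction G Ω] [FaithfulSMul G Ω]
    [Fintype Ω] (hprim : MulAction.IsPreprimitive G Ω)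
    (haff : ∃ N : Subgroup G, N.Normal ∧ N ≠ ⊥ ∧ IsMulCommutative ↥N)
    (hbin : ∀ (n : ℕ) (I J : Fin n → Ω), 2 ≤ n →
      (∀ i j : Fin n, i ≠ j → ∃ g : G, g • I i = J i ∧ g • I j = J j) →
      ∃ g : G, ∀ i, g • I i = J i) (α : Ω) :
    ((Fintype.card Ω).Prime ∧ Nat.card ↥(MulAction.stabilizer G α) ≤ 2) ∨
    (∃ (F E : Type) (_ : Field F) (_ : Fintype F) (_ : Field E) (_ : Fintype E) (_ : Algebra F E)
      (e : Ω ≃ E), Module.finrank F E = 2 ∧
        ∀ σ : Equiv.Perm Ω, σ ∈ (MulAction.toPermHom G Ω).range ↔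
          ∃ (a b : E) (φ : E ≃ₐ[F] E), Algebra.norm F a = 1 ∧
            ∀ ω : Ω, e (σ ω) = a * φ (e ω) + b) := by
  classical
  obtain ⟨N, hN, hN1, hNc⟩ := haff
  haveI := hN
  haveI := hprim
  have hcomm : ∀ a ∈ N, ∀ b ∈ N, a * b = b * a := fun a ha b hb =>
    congrArg Subtype.val (hNc.is_comm.comm (⟨a, ha⟩ : N) ⟨b, hb⟩)
  have htrans : ∀ {M : Subgroup G}, M.Normal → M ≠ ⊥ → ∀ x y : Ω, ∃ m ∈ M, m • x = y := by
    intro M hM hM1 x y
    haveI := hM
    have hfix : MulAction.fixedPoints M Ω ≠ Set.univ := by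
      intro h
      refine hM1 ((Subgroup.eq_bot_iff_forall M).2 fun m hm => ?_)
      refine eq_of_smul_eq_smul (α := Ω) fun z => ?_
      rw [one_smul]
      exact (h.symm ▸ Set.mem_univ z : z ∈ MulAction.fixedPoints M Ω) ⟨m, hm⟩
    haveI := MulAction.IsQuasiPreprimitive.isPretransitive_of_normal (G := G) (X := Ω) (N := M) hfix
    obtain ⟨⟨m, hm⟩, h⟩ := MulAction.exists_smul_eq M x y
    exact ⟨m, hm, h⟩
  have hreg : ∀ n ∈ N, n • α = α → n = 1 := by
    intro n hn h
    refine eq_of_smul_eq_smul (α := Ω) fun z => ?_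
    obtain ⟨m, hm, rfl⟩ := htrans hN hN1 α z
    rw [one_smul, ← mul_smul, hcomm n hn m hm, mul_smul, h]
  let ev : Additive N → Ω := fun v => ((Additive.toMul v : N) : G) • α
  have hev : Function.Bijective ev := by
    refine ⟨fun v w h => ?_, fun z => ?_⟩
    · refine Additive.toMul.injective (Subtype.ext ?_)
      refine inv_mul_eq_one.1 (hreg _ (mul_mem (inv_mem (Additive.toMul v).2)
        (Additive.toMul w).2) ?_)
      rw [mul_smul, inv_smul_eq_iff]
      exact h.symm
    · obtain ⟨m, hm, h⟩ := htrans hN hN1 α z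
      exact ⟨Additive.ofMul ⟨m, hm⟩, h⟩
  letI : AddCommGroup (Additive N) :=
    { (inferInstance : AddGroup (Additive N)) with
      add_comm := fun a b => Additive.toMul.injective (Subtype.ext
        (hcomm _ (Additive.toMul a).2 _ (Additive.toMul b).2)) }
  letI : DistribMulAction (MulAction.stabilizer G α) (Additive N) :=
    { smul := fun k v => Additive.ofMul ((MulAut.conjNormal (k : G)) (Additive.toMul v))
      one_smul := fun v => by
        show Additive.ofMul ((MulAut.conjNormal ((1 : MulAction.stabilizer G α) : G)) _) = v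
        simp
      mul_smul := fun k l v => by
        show Additive.ofMul ((MulAut.conjNormal ((k * l : MulAction.stabilizer G α) : G)) _) =
          Additive.ofMul ((MulAut.conjNormal (k : G)) ((MulAut.conjNormal (l : G)) _))
        simp [map_mul]
      smul_zero := fun k => map_one (MulAut.conjNormal (k : G))
      smul_add := fun k v w => map_mul (MulAut.conjNormal (k : G)) (Additive.toMul v) _ }
  have hevk : ∀ (k : MulAction.stabilizer G α) (v : Additive N),
      ev (k • v) = (k : G) • ev v := by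
    intro k v
    show ((MulAut.conjNormal (k : G) (Additive.toMul v) : N) : G) • α = _
    rw [MulAut.conjNormal_apply, mul_smul, mul_smul, inv_smul_eq_iff.2
      (show α = (k : G) • α from (MulAction.mem_stabilizer_iff.1 k.2).symm)]
  have hevadd : ∀ v w : Additive N, ev (v + w) = ((Additive.toMul v : N) : G) • ev w := by
    intro v w
    exact mul_smul _ _ _
  haveI : FaithfulSMul (MulAction.stabilizer G α) (Additive N) := ⟨fun {k l} h => by
    refine Subtype.ext (eq_of_smul_eq_smul (α := Ω) fun z => ?_)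
    obtain ⟨v, rfl⟩ := hev.2 z
    rw [← hevk, ← hevk, h v]⟩
  haveI : Nontrivial N := (Subgroup.nontrivial_iff_ne_bot N).2 hN1
  haveI : Nontrivial (Additive N) := inferInstance
  have hdec : ∀ g : G, ∃ n ∈ N, ∃ k ∈ MulAction.stabilizer G α, g = n * k := by
    intro g
    obtain ⟨n, hn, h⟩ := htrans hN hN1 α (g • α)
    exact ⟨n, hn, n⁻¹ * g, MulAction.mem_stabilizer_iff.2 (by
      rw [mul_smul, ← h, inv_smul_smul]), by group⟩
  have hirr : IrrL (MulAction.stabilizer G α) (Additive N) := by
    intro W hW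
    by_cases hW0 : W = ⊥
    · exact Or.inl hW0
    right
    let M : Subgroup G :=
      { carrier := {g | ∃ h : g ∈ N, Additive.ofMul (⟨g, h⟩ : N) ∈ W}
        one_mem' := ⟨one_mem N, W.zero_mem⟩
        mul_mem' := by
          rintro a b ⟨ha, haW⟩ ⟨hb, hbW⟩
          exact ⟨mul_mem ha hb, W.add_mem haW hbW⟩
        inv_mem' := by
          rintro a ⟨ha, haW⟩
          exact ⟨inv_mem ha, W.neg_mem haW⟩ }
    have hMn : M.Normal := ⟨by
      rintro m ⟨hm, hmW⟩ g
      obtain ⟨n, hn, k, hk, rfl⟩ := hdec g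
      have hkm : k * m * k⁻¹ ∈ N := hN.conj_mem m hm k
      have : n * k * m * (n * k)⁻¹ = k * m * k⁻¹ := by
        rw [show n * k * m * (n * k)⁻¹ = n * (k * m * k⁻¹) * n⁻¹ by group, hcomm n hn _ hkm,
          mul_inv_cancel_right]
      rw [this]
      refine ⟨hkm, ?_⟩
      have h := hW ⟨k, hk⟩ _ hmW
      exact (show Additive.ofMul (⟨k * m * k⁻¹, hkm⟩ : N) = (⟨k, hk⟩ : MulAction.stabilizer G α) •
        Additive.ofMul (⟨m, hm⟩ : N) from congrArg Additive.ofMul (Subtype.ext
          (MulAut.conjNormal_apply (H := N) k ⟨m, hm⟩).symm)) ▸ h⟩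
    have hM1 : M ≠ ⊥ := by
      intro h
      refine hW0 ((AddSubgroup.eq_bot_iff_forall W).2 fun w hw => ?_)
      have h' : ((Additive.toMul w : N) : G) ∈ M := ⟨(Additive.toMul w).2, hw⟩
      rw [h, Subgroup.mem_bot] at h'
      exact Additive.toMul.injective (Subtype.ext h')
    refine top_le_iff.1 fun v _ => ?_
    obtain ⟨m, ⟨hm, hmW⟩, h⟩ := htrans hMn hM1 α (ev v)
    have : Additive.ofMul (⟨m, hm⟩ : N) = v := hev.1 h
    exact this ▸ hmW
  have hbinL : BinL (MulAction.stabilizer G α) (Additive N) := by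
    intro n v w h1 h2
    rcases Nat.eq_zero_or_pos n with rfl | hn
    · exact ⟨1, fun i => i.elim0⟩
    obtain ⟨g, hg⟩ := hbin (n + 1) (Fin.cons α fun i => ev (v i)) (Fin.cons α fun i => ev (w i))
      (by omega) (by
        have key : ∀ i, ∃ g : G, g • α = α ∧ g • ev (v i) = ev (w i) := fun i => by
          obtain ⟨k, hk⟩ := h1 i
          exact ⟨k, MulAction.mem_stabilizer_iff.1 k.2, by rw [← hevk, hk]⟩
        intro i j hij
        rcases Fin.eq_zero_or_eq_succ i with rfl | ⟨i', rfl⟩ <;>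
          rcases Fin.eq_zero_or_eq_succ j with rfl | ⟨j', rfl⟩ <;>
          simp only [Fin.cons_zero, Fin.cons_succ]
        · exact absurd rfl hij
        · exact key j'
        · obtain ⟨g, hg1, hg2⟩ := key i'
          exact ⟨g, hg2, hg1⟩
        · obtain ⟨k, hk⟩ := h2 i' j'
          refine ⟨(Additive.toMul (w j') : N) * ((k : G) * ((Additive.toMul (v j') : N) : G)⁻¹),
            ?_, ?_⟩
          · have : ev (v i') = ((Additive.toMul (v j') : N) : G) • ev (v i' - v j') := by
              rw [← hevadd, add_sub_cancel]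
            rw [mul_smul, mul_smul, this, inv_smul_smul, ← hevk, hk, ← hevadd, add_sub_cancel]
          · rw [mul_smul, mul_smul]
            show _ • (k : G) • _⁻¹ • (((Additive.toMul (v j') : N) : G) • α) = _
            rw [inv_smul_smul, MulAction.mem_stabilizer_iff.1 k.2])
    refine ⟨⟨g, MulAction.mem_stabilizer_iff.2 (hg 0)⟩, fun i => hev.1 ?_⟩
    have := hg i.succ
    simp only [Fin.cons_succ] at this
    rw [hevk]
    exact this
  obtain ⟨p, hp, hpV⟩ : ∃ p : ℕ, p.Prime ∧ ∀ v : Additive N, p • v = 0 := by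
    have h1 : 1 < Nat.card (Additive N) := Finite.one_lt_card
    obtain ⟨p, hp, hpd⟩ := Nat.exists_prime_and_dvd h1.ne'
    haveI := Fact.mk hp
    obtain ⟨x, hx⟩ := exists_prime_addOrderOf_dvd_card' p hpd
    rcases hirr (nsmulAddMonoidHom p : Additive N →+ Additive N).ker (fun k v hv => by
      show p • (k • v) = 0
      rw [← smul_comm, show p • v = 0 from hv, smul_zero]) with h | h
    · have := (AddSubgroup.eq_bot_iff_forall _).1 h x
        (show p • x = 0 by rw [← hx]; exact addOrderOf_nsmul_eq_zero x)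
      rw [this, addOrderOf_zero] at hx
      exact absurd hx.symm hp.one_lt.ne'
    · exact ⟨p, hp, fun v => show v ∈ (nsmulAddMonoidHom p : Additive N →+ Additive N).ker from
        h.symm ▸ AddSubgroup.mem_top v⟩
  haveI := Fact.mk hp
  have hcardΩ : Fintype.card Ω = Nat.card (Additive N) := by
    rw [← Nat.card_eq_fintype_card, Nat.card_congr (Equiv.ofBijective ev hev)]
  by_cases hc : ∀ g h : MulAction.stabilizer G α, g * h = h * g
  · left
    obtain ⟨hVp, hneg⟩ := semiregular_small hbinL hirr p hpV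
      (fun g x hx hgx => hirr.eq_one_of_central (fun k => hc g k) hx hgx)
    refine ⟨by rw [hcardΩ, hVp]; exact hp, ?_⟩
    refine le_trans (Nat.card_le_card_of_injective
      (fun k : MulAction.stabilizer G α => decide (k = 1)) fun k l h => ?_) (by simp)
    by_cases hk : k = 1 <;> by_cases hl : l = 1 <;> simp [hk, hl] at h ⊢
    refine eq_of_smul_eq_smul (α := Additive N) fun v => ?_
    rw [(hneg k).resolve_left hk v, (hneg l).resolve_left hl v]
  · right
    push Not at hc
    obtain ⟨D⟩ : Nonempty (DihData (MulAction.stabilizer G α) (Additive N)) := by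
      by_cases hp2 : p = 2
      · exact exists_dihData_two hbinL hirr
          (fun v => by have := hpV v; rwa [hp2, two_nsmul] at this) hc
      · letI : Module (ZMod p) (Additive N) := AddCommGroup.zmodModule hpV
        exact exists_dihData_odd hbinL hirr hpV hp2 hc
    obtain ⟨E, _, _, φ, σ, hσ1, hσ2, hto, hfrom⟩ := exists_field_model hirr D
    obtain ⟨F, _, _, _, hrank, haut, ⟨φσ, hφσ⟩, hnorm⟩ := exists_fixed_field E σ hσ1 hσ2
    let eΩ : Ω ≃ E := (Equiv.ofBijective ev hev).symm.trans φ.toEquiv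
    have heΩ : ∀ v, eΩ (ev v) = φ v := fun v =>
      congrArg φ ((Equiv.ofBijective ev hev).symm_apply_apply v)
    refine ⟨F, E, inferInstance, inferInstance, inferInstance, inferInstance, inferInstance, eΩ,
      hrank, fun π => ⟨?_, ?_⟩⟩
    · rintro ⟨g, rfl⟩
      obtain ⟨n, hn, k, hk, rfl⟩ := hdec g
      have hact : ∀ v : Additive N, eΩ ((n * k) • ev v) =
          φ (Additive.ofMul ⟨n, hn⟩) + φ ((⟨k, hk⟩ : MulAction.stabilizer G α) • v) := by
        intro v
        rw [mul_smul, show k • ev v = ev ((⟨k, hk⟩ : MulAction.stabilizer G α) • v) from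
          (hevk ⟨k, hk⟩ v).symm,
          show n • ev ((⟨k, hk⟩ : MulAction.stabilizer G α) • v) =
            ev (Additive.ofMul (⟨n, hn⟩ : N) + (⟨k, hk⟩ : MulAction.stabilizer G α) • v) from
            (hevadd (Additive.ofMul (⟨n, hn⟩ : N)) _).symm, heΩ, map_add]
      obtain ⟨a, ha, h⟩ := hto ⟨k, hk⟩
      rcases h with h | h
      · refine ⟨a, φ (Additive.ofMul ⟨n, hn⟩), AlgEquiv.refl, (hnorm a).2 ha, fun ω => ?_⟩
        obtain ⟨v, rfl⟩ := hev.2 ω
        show eΩ ((n * k) • ev v) = a * eΩ (ev v) + _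
        rw [hact, h, heΩ, add_comm]
      · refine ⟨a, φ (Additive.ofMul ⟨n, hn⟩), φσ, (hnorm a).2 ha, fun ω => ?_⟩
        obtain ⟨v, rfl⟩ := hev.2 ω
        show eΩ ((n * k) • ev v) = a * φσ (eΩ (ev v)) + _
        rw [hact, h, heΩ, hφσ, add_comm]
    · rintro ⟨a, b, θ, ha, hπ⟩
      obtain ⟨⟨k₁, hk₁⟩, ⟨k₂, hk₂⟩⟩ := hfrom a ((hnorm a).1 ha)
      obtain ⟨k, hk⟩ : ∃ k : MulAction.stabilizer G α, ∀ v, φ (k • v) = a * θ (φ v) := by
        rcases haut θ with h | h
        · exact ⟨k₁, fun v => by rw [hk₁, h]⟩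
        · exact ⟨k₂, fun v => by rw [hk₂, h]⟩
      refine ⟨((Additive.toMul (φ.symm b) : N) : G) * (k : G), Equiv.ext fun ω => eΩ.injective ?_⟩
      obtain ⟨v, rfl⟩ := hev.2 ω
      rw [hπ, heΩ]
      show eΩ ((((Additive.toMul (φ.symm b) : N) : G) * (k : G)) • ev v) = _
      rw [mul_smul, ← hevk, ← hevadd, heΩ, map_add, φ.apply_symm_apply, hk, add_comm]

end CfsgLib.KnownA.BinaryAffine
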